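import Cfsg.Agent.H15.RV.I
import Cfsg.Agent.H16.D.TH

/-! The `5`-local model `Th` (words found by tools/h15/rv/th5). -/

set_option autoImplicit false
set_option maxRecDepth 100000
set_option maxHeartbeats 0

namespace H15.RV
open H16 H16.FP

theorem md_n {p : ℕ} [Fact p.Prime] {G : Type*} [Group G] {x y z w a n : G} {k : ℕ} (h3 : p ≠ 3)
    (h4 : ¬ p ^ 4 ∣ Nat.card G) (h2 : (2 : ZMod p) ≠ 0) (hx : x ^ p = 1) (z1 : z ≠ 1)
    (h : x * y = z * y * x) (xz : x * z = z * x) (nz : n * z = z * n) (ha : a * x = z * a)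
    (n1 : n * x = y * n) (n2 : n * y = w * n) (hw : x * y * w = z ^ k) (t : Prop) : Md p G t := by
  obtain rfl : y = n * x * n⁻¹ := by rw [n1]; group
  have hz : z ^ p = 1 := by
    rw [show z = a * x * a⁻¹ by rw [ha]; group, conj_pow, hx]; group
  have yz : Commute (n * x * n⁻¹) z :=
    ((show Commute n z from nz).mul_left xz).mul_left (show Commute n z from nz).inv_left
  obtain ⟨S, e, f, e1, e2, e3⟩ := exists_fr h2 hx (by rw [conj_pow, hx]; group) hz z1 h xz yz
  refine ⟨S, e, f, h4, ⟨![1, 0], f.mem_Rg (c := 0) (d := 2) (g := a) (by simp) ?_,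
    ![0, 1], f.mem_Rg (c := 0) (d := 2) (g := a * n⁻¹) (by simp) ?_,
    ![-1, -1], f.mem_Rg (c := k * 2 - 1) (d := 2) (g := a * n⁻¹ * n⁻¹) (by simp) ?_, by simp [om],
    by simp [om], by simp [om]⟩, fun a => absurd a h3⟩
  · rw [e1, e3, ha]; group
  · rw [e2, e3, show z = a * x * a⁻¹ by rw [ha]; group]; group
  · have : e ![-1, -1] (k * 2 - 1) = w := by
      rw [eq_inv_mul_of_mul_eq hw, ← e2, ← e1, ← e3, f.mul, f.inv, f.pow, f.mul]; congr 1
      · exact vext (by simp) (by simp)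
      · simp [om]; ring
    rw [this, e3, show w = n * (n * x * n⁻¹) * n⁻¹ by rw [n2]; group,
      show z = a * x * a⁻¹ by rw [ha]; group]; group

/-- straight-line programs of matrices -/
noncomputable def slpM {n p : ℕ} (q : FP n n p) (P : List (List ℕ)) : List ℕ → ℕ → (List ℕ → ℕ → Bool) → Bool :=
  List.rec (motive := fun _ => List ℕ → ℕ → (List ℕ → ℕ → Bool) → Bool) (fun C K f => f C K)
    (fun W _ ih C K f => Nat.beq (ltAll K W) 0 && H26.frc (q.ev C W) fun X => ih (C ++ [X]) (K + 1) f) P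

theorem slpM_sound {n p : ℕ} {q : FP n n p} (h : q.OK) {H : Subgroup (GL (Fin n) (ZMod p))}
    {f : List ℕ → ℕ → Bool} (P : List (List ℕ)) : ∀ (E : ℕ → H) (C : List ℕ) (K : ℕ), C.length = K →
      q.RpL (fun k => E k) C K → slpM q P C K f = true →
      ∃ (E : ℕ → H) (C : List ℕ) (K : ℕ), q.RpL (fun k => E k) C K ∧ f C K = true := by
  induction P with
  | nil => exact fun E C K _ a b => ⟨E, C, K, a, b⟩
  | cons W P ih =>
    intro E C K l a b
    have b : (Nat.beq (ltAll K W) 0 && slpM q P (C ++ [q.ev C W]) (K + 1) f) = true := b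
    simp only [Bool.and_eq_true, Nat.beq_eq] at b
    refine ih (Function.update E K (evA E W)) _ _ (by simp [l]) (fun k hk => ?_) b.2
    rcases Nat.lt_succ_iff_lt_or_eq.1 hk with c | rfl
    · simpa [Function.update_of_ne c.ne, nth_eq_getD, List.getD_eq_getElem?_getD,
        List.getElem?_append_left (l ▸ c)] using a k c
    · have := a.ev h (ltAll_zero b.1)
      rw [show evA (fun k => (E k : GL (Fin n) (ZMod p))) W = evA E W from (map_evA E H.subtype W).symm] at this
      simpa [nth_eq_getD, List.getD_eq_getElem?_getD, ← l] using this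

noncomputable def P5 : List (List ℕ) := [[3, 4, 7, 10], [9, 8, 4, 3], [9, 3, 1, 0, 9, 1, 9, 0, 1, 9, 3, 10, 5], [6, 9, 3, 10, 1, 0, 10, 1, 10, 0, 1, 3, 10], [11, 11, 11], [14, 15, 13], [12, 16, 11], [12, 17, 11]]
noncomputable def L5 : List (List ℕ × List ℕ) := [([16, 16, 16, 16, 16], []), ([17, 16], [16, 17, 15]), ([15, 16], [16, 15]), ([15, 11], [11, 15]), ([16, 14], [14, 15]), ([16, 11], [11, 17]), ([17, 11], [11, 18]), ([18, 17, 16], [15, 15, 15])]

theorem c5 : (DTH.q.run fun q => frcs DTH.C fun C => slpM q P5 C 11 fun C K =>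
    allL (q.prEnt C K) L5 && q.neChk C K [15] [] 0) = true := by decide +kernel

theorem md5 [Fact (Nat.Prime 5)] (t : Prop) : HasMd 5 t := by
  have c := c5
  rw [run_eq, frcs_eq] at c
  obtain ⟨E, C, K, a, b⟩ := slpM_sound DTH.qok P5 (DC.sg DTH.g 11) DTH.C 11 rfl
    (fun k hk => by simpa only [DC.sg_lt _ hk] using DTH.rp k hk) c
  rw [Bool.and_eq_true] at b
  have R : ∀ r ∈ L5, evA E r.1 = evA E r.2 := fun r hr => Subtype.ext
    ((map_evA E (gen DTH.g 11).subtype _).trans ((a.pr DTH.qok (allL_sound b.1 r hr)).trans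
      (map_evA E (gen DTH.g 11).subtype _).symm))
  have Z : E 15 ≠ 1 := fun e => a.ne DTH.qok b.2 (by simp [e])
  simp only [L5, List.forall_mem_cons, evA_cons, evA_nil, one_mul] at R
  obtain ⟨r0, r1, r2, r3, r4, r5, r6, r7, -⟩ := R
  have c := DTH.main.2.1
  exact ⟨gen DTH.g 11, inferInstance, Nat.finite_of_card_ne_zero (by rw [c]; decide),
    md_n (x := E 16) (k := 3) (by decide) (by rw [c]; decide) (fun e => absurd ((ZMod.natCast_eq_zero_iff 2 5).1 e) (by decide))
      (by simpa only [pow_succ, pow_zero, one_mul] using r0) Z r1 r2 r3 r4 r5 r6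
      (by simpa only [pow_succ, pow_zero, one_mul] using r7) t⟩

end H15.RV
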