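import Cfsg.Agent.H4.Rz2
import Cfsg.Agent.H25.Heis
import Cfsg.Agent.H27.Dickson

/-! Heisenberg frames: coordinates on the extraspecial group `p^{1+2}_+` inside an ambient group. -/

set_option autoImplicit false
set_option linter.unusedSectionVars false

namespace H15.RV
open Subgroup H25 H25.FS H27

abbrev V (p : ℕ) : Type := Fin 2 → ZMod p
abbrev G2 (p : ℕ) : Type := GL (Fin 2) (ZMod p)

variable {p : ℕ} [hp : Fact p.Prime]

/-- the symplectic form -/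
def om (v w : V p) : ZMod p := v 0 * w 1 - v 1 * w 0
/-- the determinant -/
def dt (A : G2 p) : ZMod p := A 0 0 * A 1 1 - A 0 1 * A 1 0

theorem vext {v w : V p} (h0 : v 0 = w 0) (h1 : v 1 = w 1) : v = w := by
  ext i; fin_cases i <;> assumption

theorem dt_ne (A : G2 p) : dt A ≠ 0 := gl_det_ne A

theorem dt_mul (A B : G2 p) : dt (A * B) = dt A * dt B := by
  simp only [dt, gl_mul_apply]; ring

theorem dt_one : dt (1 : G2 p) = 1 := by simp [dt]

theorem dt_inv (A : G2 p) : dt A⁻¹ = (dt A)⁻¹ :=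
  eq_inv_of_mul_eq_one_left (by rw [← dt_mul, inv_mul_cancel, dt_one])

theorem dt_pow (A : G2 p) (n : ℕ) : dt (A ^ n) = dt A ^ n := by
  induction n with
  | zero => simp [dt_one]
  | succ n ih => rw [pow_succ, dt_mul, ih, pow_succ]

theorem om_smul (A : G2 p) (v w : V p) : om (A • v) (A • w) = dt A * om v w := by
  simp only [om, dt, gl_smul_apply]; ring

theorem exists_smul_of_om {v w : V p} (hv : v ≠ 0) (h : om v w = 0) : ∃ a : ZMod p, w = a • v := by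
  unfold om at h
  by_cases h0 : v 0 = 0
  · have h1 : v 1 ≠ 0 := fun h1 => hv (vext h0 h1)
    refine ⟨w 1 / v 1, vext ?_ ?_⟩
    · rw [h0, zero_mul, zero_sub, neg_eq_zero, mul_eq_zero] at h
      simp [h0, h.resolve_left h1]
    · simp [h1]
  · refine ⟨w 0 / v 0, vext (by simp [h0]) ?_⟩
    simp only [Pi.smul_apply, smul_eq_mul]
    field_simp
    linear_combination h

theorem exists_om (h2 : (2 : ZMod p) ≠ 0) {v : V p} (hv : v ≠ 0) (t : ZMod p) :
    ∃ w : V p, 2 * om w v = t := by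
  by_cases h0 : v 0 = 0
  · have h1 : v 1 ≠ 0 := fun h1 => hv (vext h0 h1)
    exact ⟨![t / (2 * v 1), 0], by simp [om]; field_simp⟩
  · exact ⟨![0, -t / (2 * v 0)], by simp [om]; field_simp⟩

theorem exists_nat (a : ZMod p) : ∃ n : ℕ, (n : ZMod p) = a := ⟨a.val, ZMod.natCast_zmod_val a⟩

theorem gl_eq_of_smul {A B : G2 p} (h : ∀ v : V p, A • v = B • v) : A = B := by
  have h1 := h ![1, 0]
  have h2 := h ![0, 1]
  apply gl_ext
  · simpa [gl_smul_apply] using congrFun h1 0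
  · simpa [gl_smul_apply] using congrFun h2 0
  · simpa [gl_smul_apply] using congrFun h1 1
  · simpa [gl_smul_apply] using congrFun h2 1

variable {Γ : Type*} [Group Γ]

/-- a Heisenberg frame for `S` -/
structure Fr (S : Subgroup Γ) (e : V p → ZMod p → Γ) : Prop where
  two : (2 : ZMod p) ≠ 0
  mul : ∀ v c w d, e v c * e w d = e (v + w) (c + d + om v w)
  inj : ∀ v c, e v c = 1 → v = 0 ∧ c = 0
  mem : ∀ s, s ∈ S ↔ ∃ v c, e v c = s

/-- `g` acts on `S/Z(S)` as the matrix `A` -/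
def Act (e : V p → ZMod p → Γ) (g : Γ) (A : G2 p) : Prop :=
  ∀ v c, ∃ d, g * e v c * g⁻¹ = e (A • v) d

/-- change of frame -/
def chg (e : V p → ZMod p → Γ) (B : G2 p) (v : V p) (c : ZMod p) : Γ := e (B • v) (dt B * c)

/-- the maximal subgroup through `v` -/
def Vs (e : V p → ZMod p → Γ) (v : V p) : Subgroup Γ := zpowers (e v 0) ⊔ zpowers (e 0 1)

namespace Fr
variable {S H : Subgroup Γ} {e : V p → ZMod p → Γ} (h : Fr S e) {v w : V p} {c d : ZMod p}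
  {g k : Γ} {A B : G2 p}
include h

theorem mem' (v : V p) (c : ZMod p) : e v c ∈ S := (h.mem _).2 ⟨v, c, rfl⟩

theorem zero : e 0 0 = 1 := by
  have := h.mul 0 0 0 0
  simpa [om] using this

theorem inv (v : V p) (c : ZMod p) : (e v c)⁻¹ = e (-v) (-c) := by
  rw [inv_eq_iff_mul_eq_one, h.mul, ← h.zero]
  congr 1
  · simp
  · simp [om, mul_comm]

theorem eq_iff : e v c = e w d ↔ v = w ∧ c = d := by
  refine ⟨fun e1 => ?_, fun ⟨a, b⟩ => by rw [a, b]⟩
  have := h.inj _ _ (by rw [← h.mul v c (-w) (-d), ← h.inv, e1, mul_inv_cancel])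
  obtain rfl : v = w := by simpa [add_neg_eq_zero] using this.1
  refine ⟨rfl, ?_⟩
  have h2 := this.2
  simp only [om, Pi.neg_apply] at h2
  linear_combination h2

theorem conj (w : V p) (d : ZMod p) (v : V p) (c : ZMod p) :
    e w d * e v c * (e w d)⁻¹ = e v (c + 2 * om w v) := by
  rw [h.inv, h.mul, h.mul, h.eq_iff]
  exact ⟨by abel, by simp [om]; ring⟩

theorem comm (v : V p) (c : ZMod p) (w : V p) (d : ZMod p) :
    e v c * e w d * (e v c)⁻¹ * (e w d)⁻¹ = e 0 (2 * om v w) := by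
  rw [h.conj, h.inv, h.mul, h.eq_iff]
  exact ⟨by abel, by simp [om]; ring⟩

theorem pow (v : V p) (c : ZMod p) (n : ℕ) : e v c ^ n = e ((n : ZMod p) • v) (n * c) := by
  induction n with
  | zero => simp [h.zero]
  | succ n ih =>
    rw [pow_succ, ih, h.mul, h.eq_iff]
    exact ⟨by simp [add_smul], by simp [om]; ring⟩

theorem split (v : V p) (c : ZMod p) : e v c = e v 0 * e 0 c := by
  rw [h.mul]; simp [om]

theorem pow_p (v : V p) (c : ZMod p) : e v c ^ p = 1 := by simp [h.pow, h.zero]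

theorem comm_iff : e v c * e w d = e w d * e v c ↔ om v w = 0 := by
  rw [h.mul, h.mul, h.eq_iff]
  constructor
  · rintro ⟨-, a⟩
    refine (mul_eq_zero.1 ?_).resolve_left h.two
    simp only [om] at a ⊢
    linear_combination a
  · intro a
    refine ⟨add_comm _ _, ?_⟩
    simp only [om] at a ⊢
    linear_combination 2 * a

theorem mem_cz : e v c ∈ cz S ↔ v = 0 := by
  rw [mem_cz']
  refine ⟨fun a => vext ?_ ?_, ?_⟩
  · simpa [om] using h.comm_iff.1 (a _ (h.mem' ![0, 1] 0))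
  · simpa [om] using h.comm_iff.1 (a _ (h.mem' ![1, 0] 0))
  · rintro rfl x hx
    obtain ⟨w, d, rfl⟩ := (h.mem _).1 hx
    exact h.comm_iff.2 (by simp [om])

theorem smul_mem (a : e v c ∈ H) (t : ZMod p) : e (t • v) (t * c) ∈ H := by
  obtain ⟨n, rfl⟩ := exists_nat t
  exact h.pow v c n ▸ pow_mem a n

theorem z_mem (a : e 0 d ∈ H) (hd : d ≠ 0) (c : ZMod p) : e 0 c ∈ H := by
  simpa [hd] using h.smul_mem a (c / d)

theorem le_of_gen (h1 : e ![1, 0] 0 ∈ H) (h2 : e ![0, 1] 0 ∈ H) : S ≤ H := fun s hs => by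
  obtain ⟨v, c, rfl⟩ := (h.mem _).1 hs
  have h3 : e 0 2 ∈ H := by
    have := mul_mem (mul_mem (mul_mem h1 h2) (inv_mem h1)) (inv_mem h2)
    rw [h.comm] at this
    simpa [om] using this
  have := mul_mem (mul_mem (h.smul_mem h1 (v 0)) (h.smul_mem h2 (v 1)))
    (h.z_mem h3 h.two (c - v 0 * v 1))
  rw [h.mul, h.mul] at this
  convert this using 2
  · exact vext (by simp) (by simp)
  · simp [om]

theorem equiv : Nonempty (V p × ZMod p ≃ S) :=
  ⟨Equiv.ofBijective (fun x => ⟨e x.1 x.2, h.mem' _ _⟩) ⟨fun x y a => Prod.ext_iff.2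
    (h.eq_iff.1 (congrArg Subtype.val a)), fun s => by
      obtain ⟨v, c, a⟩ := (h.mem _).1 s.2
      exact ⟨(v, c), Subtype.ext a⟩⟩⟩

theorem card : Nat.card S = p ^ 3 := by
  obtain ⟨f⟩ := h.equiv
  rw [← Nat.card_congr f, Nat.card_prod, Nat.card_fun, Nat.card_zmod, Nat.card_fin, ← pow_succ]

theorem finite : Finite S := by
  obtain ⟨f⟩ := h.equiv
  exact Finite.of_equiv _ f

theorem pg : IsPGroup p S := IsPGroup.of_card h.card

theorem syl [Finite H] (hle : S ≤ H) (h4 : ¬ p ^ 4 ∣ Nat.card H) : Syl p S H := by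
  refine ⟨hle, fun a => h4 ?_⟩
  rw [← card_mul_index (S.subgroupOf H), Nat.card_congr (subgroupOfEquivOfLe hle).toEquiv, h.card,
    pow_succ]
  exact Nat.mul_dvd_mul_left _ a

theorem hs3 : Hs3 S := by
  refine ⟨fun x y => ?_, fun x hx a b h1 h2 => ?_, fun x hx z hz => ?_⟩
  · obtain ⟨v, c, a⟩ := (h.mem _).1 x.2
    obtain ⟨w, d, b⟩ := (h.mem _).1 y.2
    refine mem_center_sub.2 ?_
    change x.1 * y.1 * x.1⁻¹ * y.1⁻¹ ∈ _
    rw [← a, ← b, h.comm, h.mem_cz]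
  · obtain ⟨v, c, a1⟩ := (h.mem _).1 x.2
    obtain ⟨w, d, a2⟩ := (h.mem _).1 a.2
    obtain ⟨u, f, a3⟩ := (h.mem _).1 b.2
    rw [mem_center_sub, ← a1, h.mem_cz] at hx
    have b1 := congrArg Subtype.val h1
    have b2 := congrArg Subtype.val h2
    simp only [coe_mul, ← a1, ← a2, ← a3, h.comm_iff] at b1 b2
    obtain ⟨s, rfl⟩ := exists_smul_of_om hx b1
    obtain ⟨t, rfl⟩ := exists_smul_of_om hx b2
    refine Subtype.ext ?_
    simp only [coe_mul, ← a2, ← a3, h.comm_iff]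
    simp [om]; ring
  · obtain ⟨v, c, a1⟩ := (h.mem _).1 x.2
    obtain ⟨w, d, a2⟩ := (h.mem _).1 z.2
    rw [mem_center_sub, ← a1, h.mem_cz] at hx
    rw [mem_center_sub, ← a2, h.mem_cz] at hz
    obtain ⟨u, hu⟩ := exists_om h.two hx (-d)
    refine ⟨⟨_, h.mem' u 0⟩, Subtype.ext ?_⟩
    change x.1 * e u 0 * x.1⁻¹ * (e u 0)⁻¹ = z.1
    rw [← a1, ← a2, h.comm, hz]
    congr 1
    simp only [om] at hu ⊢
    linear_combination -hu

theorem chg (B : G2 p) : Fr S (chg e B) where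
  two := h.two
  mul v c w d := by rw [RV.chg, RV.chg, RV.chg, h.mul, smul_add, om_smul, mul_add, mul_add]
  inj v c a := by
    obtain ⟨a1, a2⟩ := h.inj _ _ a
    exact ⟨(smul_eq_zero_iff_eq _).1 a1, (mul_eq_zero.1 a2).resolve_left (dt_ne B)⟩
  mem s := by
    rw [h.mem]
    refine ⟨?_, fun ⟨v, c, a⟩ => ⟨_, _, a⟩⟩
    rintro ⟨v, c, rfl⟩
    exact ⟨B⁻¹ • v, c / dt B, by rw [RV.chg, smul_inv_smul, mul_div_cancel₀ _ (dt_ne B)]⟩

theorem map {Δ : Type*} [Group Δ] {i : Γ →* Δ} (hi : Function.Injective i) :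
    Fr (S.map i) fun v c => i (e v c) where
  two := h.two
  mul v c w d := by rw [← map_mul, h.mul]
  inj v c a := h.inj _ _ (hi (by rw [a, map_one]))
  mem s := by
    constructor
    · rintro ⟨t, ht, rfl⟩
      obtain ⟨v, c, rfl⟩ := (h.mem _).1 ht
      exact ⟨v, c, rfl⟩
    · rintro ⟨v, c, rfl⟩
      exact ⟨_, h.mem' v c, rfl⟩

/-! ### actions -/

theorem act_z (a : Act e g A) (c : ZMod p) : g * e 0 c * g⁻¹ = e 0 (dt A * c) := by
  obtain ⟨d1, a1⟩ := a ![c / 2, 0] 0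
  obtain ⟨d2, a2⟩ := a ![0, 1] 0
  have b1 := h.comm ![c / 2, 0] 0 ![0, 1] 0
  have b2 := h.comm (A • ![c / 2, 0]) d1 (A • ![0, 1]) d2
  have := h.two
  rw [om_smul, ← a1, ← a2] at b2
  rw [show 2 * om ![c / 2, 0] ![0, 1] = c by simp [om]; field_simp] at b1
  rw [show 2 * (dt A * om ![c / 2, 0] ![0, 1]) = dt A * c by simp [om]; field_simp] at b2
  rw [← b1, ← b2]; group

theorem act_of_gen (h1 : ∃ c, g * e ![1, 0] 0 * g⁻¹ = e (A • ![1, 0]) c)
    (h2 : ∃ c, g * e ![0, 1] 0 * g⁻¹ = e (A • ![0, 1]) c) : Act e g A := by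
  let H : Subgroup Γ :=
    { carrier := {s | ∃ v c d, s = e v c ∧ g * s * g⁻¹ = e (A • v) d}
      one_mem' := ⟨0, 0, 0, h.zero.symm, by simp [h.zero]⟩
      mul_mem' := by
        rintro _ _ ⟨v, c, d, rfl, a1⟩ ⟨w, c', d', rfl, a2⟩
        exact ⟨_, _, _, h.mul .., by rw [← conj_mul, a1, a2, h.mul, smul_add]⟩
      inv_mem' := by
        rintro _ ⟨v, c, d, rfl, a1⟩
        exact ⟨_, _, _, h.inv .., by rw [← conj_inv, a1, h.inv, smul_neg]⟩ }
  intro v c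
  obtain ⟨c1, h1⟩ := h1
  obtain ⟨c2, h2⟩ := h2
  obtain ⟨w, c', d, a1, a2⟩ := h.le_of_gen (H := H) ⟨_, _, _, rfl, h1⟩ ⟨_, _, _, rfl, h2⟩ (h.mem' v c)
  obtain ⟨rfl, rfl⟩ := h.eq_iff.1 a1
  exact ⟨d, a2⟩

theorem exists_act (hg : g ∈ nz S) : ∃ A, Act e g A := by
  obtain ⟨u, α, a1⟩ := (h.mem _).1 (conj_mem_of_mem_nz hg (h.mem' ![1, 0] 0))
  obtain ⟨w, β, a2⟩ := (h.mem _).1 (conj_mem_of_mem_nz hg (h.mem' ![0, 1] 0))
  have hd : u 0 * w 1 - w 0 * u 1 ≠ 0 := fun b => by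
    have b1 : e u α * e w β = e w β * e u α := h.comm_iff.2 (by rw [om, ← b]; ring)
    rw [a1, a2, conj_mul, conj_mul, mul_left_inj, mul_right_inj, h.comm_iff] at b1
    simp [om] at b1
  refine ⟨gl2 _ _ _ _ hd, h.act_of_gen ⟨α, ?_⟩ ⟨β, ?_⟩⟩
  · rw [← a1]; congr 1; exact vext (by simp [gl_smul_apply]) (by simp [gl_smul_apply])
  · rw [← a2]; congr 1; exact vext (by simp [gl_smul_apply]) (by simp [gl_smul_apply])

theorem act_nz (a : Act e g A) : g ∈ nz S := by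
  have := h.finite
  refine mem_nz_of_conj_mem fun s hs => ?_
  obtain ⟨v, c, rfl⟩ := (h.mem _).1 hs
  obtain ⟨d, b⟩ := a v c
  exact b ▸ h.mem' _ _

omit h in
theorem _root_.H15.RV.Act.mul (a : Act e g A) (b : Act e k B) : Act e (g * k) (A * B) := fun v c => by
  obtain ⟨d, b1⟩ := b v c
  obtain ⟨d', a1⟩ := a (B • v) d
  exact ⟨d', by rw [mul_smul, ← a1, ← b1]; group⟩

omit h in
theorem _root_.H15.RV.Act.one : Act e 1 1 := fun v c => ⟨c, by simp⟩

omit h in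
theorem _root_.H15.RV.Act.pow (a : Act e g A) (n : ℕ) : Act e (g ^ n) (A ^ n) := by
  induction n with
  | zero => simpa using Act.one
  | succ n ih => rw [pow_succ, pow_succ]; exact ih.mul a

theorem act_unique (a : Act e g A) (b : Act e g B) : A = B := gl_eq_of_smul fun v => by
  obtain ⟨d, a1⟩ := a v 0
  obtain ⟨d', b1⟩ := b v 0
  exact (h.eq_iff.1 (a1.symm.trans b1)).1

theorem act_inv (a : Act e g A) : Act e g⁻¹ A⁻¹ := by
  obtain ⟨B, b⟩ := h.exists_act (inv_mem (h.act_nz a))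
  have := h.act_unique (a.mul b) (by simpa using Act.one)
  rwa [← eq_inv_of_mul_eq_one_right this]

theorem act_agree (a : Act e g A) (b : Agree S k g) : Act e k A := fun v c =>
  b _ (h.mem' v c) ▸ a v c

theorem act_S (hs : g ∈ S) : Act e g 1 := fun v c => by
  obtain ⟨w, d, rfl⟩ := (h.mem _).1 hs
  exact ⟨_, by rw [h.conj, one_smul]⟩

theorem agree_of_gen (h1 : g * e ![1, 0] 0 * g⁻¹ = k * e ![1, 0] 0 * k⁻¹)
    (h2 : g * e ![0, 1] 0 * g⁻¹ = k * e ![0, 1] 0 * k⁻¹) : Agree S g k :=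
  (agree_sup.2 ⟨agree_zpowers.2 h1, agree_zpowers.2 h2⟩).mono
    (h.le_of_gen (mem_sup_left (mem_zpowers _)) (mem_sup_right (mem_zpowers _)))

theorem inner_of_act (a : Act e g 1) : g ∈ ai S S := by
  obtain ⟨α, a1⟩ := a ![1, 0] 0
  obtain ⟨β, a2⟩ := a ![0, 1] 0
  have := h.two
  refine ⟨h.act_nz a, e ![β / 2, -α / 2] 0, h.mem' _ _, h.agree_of_gen ?_ ?_⟩
  · rw [a1, h.conj, one_smul]; congr 1; simp [om]; field_simp
  · rw [a2, h.conj, one_smul]; congr 1; simp [om]; field_simp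

omit h in
theorem _root_.H15.RV.act_chg (B : G2 p) : Act (RV.chg e B) g A ↔ Act e g (B * A * B⁻¹) := by
  constructor
  · intro a v c
    obtain ⟨d, b⟩ := a (B⁻¹ • v) (c / dt B)
    rw [RV.chg, RV.chg, smul_inv_smul, mul_div_cancel₀ _ (dt_ne B)] at b
    exact ⟨_, by rw [b, mul_smul, mul_smul]⟩
  · intro a v c
    obtain ⟨d, b⟩ := a (B • v) (dt B * c)
    exact ⟨d / dt B, by
      rw [RV.chg, RV.chg, b, mul_div_cancel₀ _ (dt_ne B), mul_smul, mul_smul, inv_smul_smul]⟩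

/-! ### maximal subgroups -/

theorem mem_Vs {x : Γ} : x ∈ Vs e v ↔ ∃ (a : ZMod p) (c : ZMod p), e (a • v) c = x := by
  constructor
  · let H : Subgroup Γ :=
      { carrier := {s | ∃ (a : ZMod p) (c : ZMod p), e (a • v) c = s}
        one_mem' := ⟨0, 0, by simp [h.zero]⟩
        mul_mem' := by
          rintro _ _ ⟨a, c, rfl⟩ ⟨b, d, rfl⟩
          exact ⟨a + b, _, by rw [h.mul, add_smul]⟩
        inv_mem' := by
          rintro _ ⟨a, c, rfl⟩
          exact ⟨-a, _, by rw [h.inv, neg_smul]⟩ }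
    exact fun a => (sup_le (zpowers_le.2 ⟨1, 0, by simp⟩) (zpowers_le.2 ⟨0, 1, by simp⟩) :
      Vs e v ≤ H) a
  · rintro ⟨a, c, rfl⟩
    rw [h.split]
    exact mul_mem (by simpa using h.smul_mem (H := Vs e v) (mem_sup_left (mem_zpowers (e v 0))) a)
      (h.z_mem (mem_sup_right (mem_zpowers _)) one_ne_zero c)

theorem mem_Vs' (a c : ZMod p) : e (a • v) c ∈ Vs e v := h.mem_Vs.2 ⟨a, c, rfl⟩

theorem v_mem (c : ZMod p) : e v c ∈ Vs e v := by simpa using h.mem_Vs' (v := v) 1 c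

theorem z_mem_Vs (c : ZMod p) : e 0 c ∈ Vs e v := by simpa using h.mem_Vs' (v := v) 0 c

theorem Vs_le : Vs e v ≤ S := sup_le (zpowers_le.2 (h.mem' _ _)) (zpowers_le.2 (h.mem' _ _))

theorem mem_Vs_iff (hv : v ≠ 0) : e w d ∈ Vs e v ↔ om v w = 0 := by
  rw [h.mem_Vs]
  constructor
  · rintro ⟨a, c, b⟩
    rw [← (h.eq_iff.1 b).1]
    simp [om]; ring
  · intro a
    obtain ⟨t, rfl⟩ := exists_smul_of_om hv a
    exact ⟨t, d, rfl⟩

theorem Z_le (hd : d ≠ 0) (a : e 0 d ∈ H) : S ⊓ cz S ≤ H := fun x hx => by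
  obtain ⟨w, c, rfl⟩ := (h.mem _).1 hx.1
  obtain rfl := h.mem_cz.1 hx.2
  exact h.z_mem a hd c

theorem le_nz_Vs : S ≤ nz (Vs e v) :=
  h.hs3.le_nz (h.Z_le one_ne_zero (h.z_mem_Vs 1)) h.Vs_le

theorem C_eq (hv : v ≠ 0) : S ⊓ cz (zpowers (e v c)) = Vs e v := by
  ext x
  refine ⟨fun hx => ?_, fun hx => ⟨h.Vs_le hx, ?_⟩⟩
  · obtain ⟨w, d, rfl⟩ := (h.mem _).1 hx.1
    exact (h.mem_Vs_iff hv).2 (h.comm_iff.1 (mem_cz'.1 hx.2 _ (mem_zpowers _)))
  · obtain ⟨a, d, rfl⟩ := h.mem_Vs.1 hx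
    refine mem_cz_zpowers.2 ?_
    rw [h.conj]
    congr 1
    simp only [om, Pi.smul_apply, smul_eq_mul]; ring

theorem Vs_smul {a : ZMod p} (ha : a ≠ 0) : Vs e (a • v) = Vs e v := by
  ext x
  rw [h.mem_Vs, h.mem_Vs]
  constructor
  · rintro ⟨b, c, rfl⟩
    exact ⟨b * a, c, by rw [mul_smul]⟩
  · rintro ⟨b, c, rfl⟩
    exact ⟨b / a, c, by rw [← mul_smul, div_mul_cancel₀ _ ha]⟩

theorem cj_Vs (a : Act e g A) : cj g (Vs e v) = Vs e (A • v) := by
  have key : ∀ {g : Γ} {A : G2 p} {v : V p}, Act e g A → cj g (Vs e v) ≤ Vs e (A • v) := by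
    intro g A v a
    refine cj_le.2 fun x hx => ?_
    obtain ⟨t, c, rfl⟩ := h.mem_Vs.1 hx
    obtain ⟨d, b⟩ := a (t • v) c
    rw [b, smul_comm]
    exact h.mem_Vs' _ _
  refine le_antisymm (key a) (le_cj_iff.2 ?_)
  simpa only [inv_smul_smul] using key (v := A • v) (h.act_inv a)

end Fr

end H15.RV
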