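import Cfsg.Agent.H15.RV.A

/-! The linear data `(W, R)` of a saturated fusion system over `p^{1+2}_+` and the comparison
theorem. -/

set_option autoImplicit false
set_option linter.unusedSectionVars false

namespace H15.RV
open Subgroup H25 H25.FS H27

variable {p : ℕ} [hp : Fact p.Prime] {Γ : Type*} [Group Γ] {F E : FS Γ} {e : V p → ZMod p → Γ}
  {v w : V p} {c d : ZMod p} {g k : Γ} {A B : G2 p}

/-- the image of `Aut_F(S)` in `GL₂(p)` -/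
def W (F : FS Γ) (h : Fr F.S e) : Subgroup (G2 p) where
  carrier := {A | ∃ g ∈ F.A F.S, Act e g A}
  one_mem' := ⟨1, one_mem _, Act.one⟩
  mul_mem' := fun ⟨g, a, b⟩ ⟨k, a', b'⟩ => ⟨g * k, mul_mem a a', b.mul b'⟩
  inv_mem' := fun ⟨g, a, b⟩ => ⟨g⁻¹, inv_mem a, h.act_inv b⟩

/-- the radical directions -/
def R (F : FS Γ) (e : V p → ZMod p → Γ) : Set (V p) :=
  {v | v ≠ 0 ∧ ∃ g d, F.T (zpowers (e v 0)) g ∧ g * e v 0 * g⁻¹ = e 0 d}

/-- the axioms satisfied by the linear data -/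
structure Dat (W : Subgroup (G2 p)) (R : Set (V p)) : Prop where
  two : (2 : ZMod p) ≠ 0
  pp : ∀ A ∈ W, A ^ p = 1 → A = 1
  ne : ∀ v ∈ R, v ≠ 0
  smul : ∀ v ∈ R, ∀ a : ZMod p, a ≠ 0 → a • v ∈ R
  act : ∀ A ∈ W, ∀ v ∈ R, A • v ∈ R
  tor : ∀ v ∈ R, ∀ a : ZMod p, a ≠ 0 → ∃ A ∈ W, A • v = a⁻¹ • v ∧ dt A = a

theorem mem_R (h : Fr F.S e) (hv : v ≠ 0) (H : F.T (zpowers (e v c)) g)
    (a : g * e v c * g⁻¹ = e 0 d) : v ∈ R F e := by
  obtain ⟨w, hw⟩ := exists_om h.two hv c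
  have b : e w 0 * e v 0 * (e w 0)⁻¹ = e v c := by rw [h.conj, hw, zero_add]
  refine ⟨hv, g * e w 0, d, (F.of_mem (zpowers_le.2 (h.mem' _ _)) (h.mem' w 0)).mul' H
    (by rw [cj_zpowers, b]), ?_⟩
  rw [← a, ← b]; group

theorem R_smul (h : Fr F.S e) (hv : v ∈ R F e) {a : ZMod p} (ha : a ≠ 0) : a • v ∈ R F e := by
  obtain ⟨h1, g, d, H, b⟩ := hv
  obtain ⟨n, rfl⟩ := exists_nat a
  have b1 := h.pow v 0 n
  rw [mul_zero] at b1
  refine ⟨smul_ne_zero ha h1, g, n * d, H.mono (zpowers_le.2 (b1 ▸ pow_mem (mem_zpowers _) n)), ?_⟩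
  rw [← b1, ← conj_pow, b, h.pow, smul_zero]

theorem R_act (h : Fr F.S e) (hA : A ∈ W F h) (hv : v ∈ R F e) : A • v ∈ R F e := by
  obtain ⟨h1, g, d, H, b⟩ := hv
  obtain ⟨k, a1, a2⟩ := hA
  obtain ⟨c, a3⟩ := a2 v 0
  refine mem_R h (g := g * k⁻¹) (c := c) (d := d) (mt (smul_eq_zero_iff_eq _).1 h1) ?_
    (by rw [← a3, ← b]; group)
  have := ((T_of_mem_A le_rfl a1).mono (zpowers_le.2 (h.mem' v 0))).inv
  rw [cj_zpowers, a3] at this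
  exact this.mul' H (by rw [← a3, ← cj_zpowers, cj_inv_cj])

/-- coordinates on `Vs e v` -/
def fv (e : V p → ZMod p → Γ) (v x : V p) : Γ := e (x 0 • v) (x 1)

theorem Fr.fv_add {S : Subgroup Γ} (h : Fr S e) (x y : V p) :
    fv e v (x + y) = fv e v x * fv e v y := by
  rw [fv, fv, fv, h.mul, h.eq_iff]
  exact ⟨by simp [add_smul], by simp only [om, Pi.smul_apply, smul_eq_mul, Pi.add_apply]; ring⟩

theorem Fr.fv_smul {S : Subgroup Γ} (h : Fr S e) (x : V p) (n : ℕ) :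
    fv e v ((n : ZMod p) • x) = fv e v x ^ n := by
  rw [fv, fv, h.pow, ← mul_smul]; rfl

theorem Fr.ac2 {S : Subgroup Γ} (h : Fr S e) (h1 : g * e v 0 * g⁻¹ = e (A 0 0 • v) (A 1 0))
    (h2 : g * e 0 1 * g⁻¹ = e (A 0 1 • v) (A 1 1)) (x : V p) :
    g * fv e v x * g⁻¹ = fv e v (A • x) := by
  obtain ⟨m, hm⟩ := exists_nat (x 0)
  obtain ⟨n, hn⟩ := exists_nat (x 1)
  have a1 : g * fv e v ![1, 0] * g⁻¹ = fv e v (A • ![1, 0]) := by
    simpa [fv, gl_smul_apply] using h1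
  have a2 : g * fv e v ![0, 1] * g⁻¹ = fv e v (A • ![0, 1]) := by
    simpa [fv, gl_smul_apply] using h2
  rw [show x = (m : ZMod p) • ![1, 0] + (n : ZMod p) • ![0, 1] from vext (by simp [hm]) (by simp [hn]),
    smul_add, smul_comm A, smul_comm A, h.fv_add, h.fv_add, h.fv_smul, h.fv_smul, h.fv_smul,
    h.fv_smul, ← a1, ← a2, conj_pow, conj_pow, conj_mul]

theorem Fr.fv_mem {S : Subgroup Γ} (h : Fr S e) (x : V p) : fv e v x ∈ Vs e v := h.mem_Vs' _ _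

theorem Fr.ac2_nz {S : Subgroup Γ} (h : Fr S e) (a : ∀ x, g * fv e v x * g⁻¹ = fv e v (A • x)) :
    g ∈ nz (Vs e v) := by
  have := h.finite
  have : Finite (Vs e v) := Finite.of_injective _ (inclusion_injective h.Vs_le)
  refine mem_nz_of_conj_mem fun s hs => ?_
  obtain ⟨t, c, rfl⟩ := h.mem_Vs.1 hs
  exact (a ![t, c]) ▸ h.fv_mem _

/-- the image of `Aut_F(V)` in `GL₂(p)` -/
def SG (F : FS Γ) (h : Fr F.S e) (v : V p) : Subgroup (G2 p) where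
  carrier := {A | ∃ g ∈ F.A (Vs e v), ∀ x, g * fv e v x * g⁻¹ = fv e v (A • x)}
  one_mem' := ⟨1, one_mem _, by simp⟩
  mul_mem' := fun ⟨g, a, b⟩ ⟨k, a', b'⟩ => ⟨g * k, mul_mem a a', fun x => by
    rw [mul_smul, ← b, ← b']; group⟩
  inv_mem' := fun {A} ⟨g, a, b⟩ => ⟨g⁻¹, inv_mem a, fun x => by
    have := b (A⁻¹ • x)
    rw [smul_inv_smul] at this
    rw [← this]; group⟩

variable [Finite Γ]

theorem W_pp (hF : F.Sat p) (h : Fr F.S e) (hA : A ∈ W F h) (h1 : A ^ p = 1) : A = 1 := by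
  obtain ⟨g, a1, a2⟩ := hA
  have a3 := h.inner_of_act (h1 ▸ a2.pow p)
  have a4 := hF.syl F.FN_S
  have a5 : g ^ (ai F.S F.S).relIndex (F.A F.S) ∈ ai F.S F.S := by
    have : ((ai F.S F.S).subgroupOf (F.A F.S)).Normal :=
      normal_subgroupOf_of_le_normalizer ((F.A_le_nz _).trans (nz_le_nz_ai_self _))
    exact pow_index_mem ((ai F.S F.S).subgroupOf (F.A F.S)) ⟨g, a1⟩
  obtain ⟨-, s, hs, b⟩ : g ∈ ai F.S F.S := by
    have c1 := (Nat.coprime_comm.1 ((Nat.Prime.coprime_iff_not_dvd hp.out).2 a4.2))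
    have c2 := Nat.gcd_eq_gcd_ab ((ai F.S F.S).relIndex (F.A F.S)) p
    rw [c1, Nat.cast_one] at c2
    rw [← zpow_one g, c2, zpow_add, zpow_mul, zpow_mul, zpow_natCast, zpow_natCast]
    exact mul_mem (zpow_mem a5 _) (zpow_mem a3 _)
  exact h.act_unique a2 (h.act_agree (h.act_S hs) b)

theorem sl_le (hF : F.Sat p) (h : Fr F.S e) (hv : v ∈ R F e) (hA : dt A = 1) : A ∈ SG F h v := by
  obtain ⟨h1, g, d, H, b⟩ := hv
  refine mem_of_det_eq_one _ ⊤ (fun t _ => ?_) (fun t _ => ?_) A (fun _ _ => trivial) hA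
  · have hd : d ≠ 0 := by
      rintro rfl
      rw [h.zero, conj_eq_one_iff] at b
      exact h1 (h.inj _ _ b).1
    obtain ⟨k, K, a⟩ := hF.ext_C H (FC_of_le_cz H.cj_le (by
      rw [cj_zpowers, b]
      exact le_cz_comm.1 (zpowers_le.2 (h.mem_cz.2 rfl))))
    replace K : F.T (Vs e v) k := K.mono (h.C_eq h1 ▸ le_sup_right)
    replace a : k * e v 0 * k⁻¹ = e 0 d := (a _ (mem_zpowers _)).trans b
    obtain ⟨u, γ, a1⟩ := (h.mem _).1 (K.conj_mem (h.z_mem_Vs 1))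
    have hu : u ≠ 0 := by
      rintro rfl
      obtain ⟨n, hn⟩ := exists_nat (γ / d)
      have a2 : e 0 γ = e 0 d ^ n := by rw [h.pow, hn, smul_zero, div_mul_cancel₀ _ hd]
      rw [a2, ← a, conj_pow, mul_left_inj, mul_right_inj, h.pow, h.eq_iff] at a1
      simp at a1
    obtain ⟨w, hw⟩ := exists_om h.two hu (t * d)
    obtain ⟨n, hn⟩ := exists_nat t
    have a3 : ∀ x, k⁻¹ * e w 0 * k * fv e v x * (k⁻¹ * e w 0 * k)⁻¹ = fv e v (upT t • x) := by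
      refine h.ac2 ?_ ?_
      · calc _ = k⁻¹ * (e w 0 * (k * e v 0 * k⁻¹) * (e w 0)⁻¹) * k := by group
          _ = _ := by
            rw [a, h.conj, show d + 2 * om w 0 = d by simp [om], ← a]
            simp [upT, mul_assoc]
      · calc _ = k⁻¹ * (e w 0 * (k * e 0 1 * k⁻¹) * (e w 0)⁻¹) * k := by group
          _ = k⁻¹ * (e u γ * e 0 d ^ n) * k := by
            rw [← a1, h.conj, hw, h.pow, h.mul, hn]
            simp [om]
          _ = e 0 1 * e v 0 ^ n := by rw [a1, ← a, conj_pow]; group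
          _ = _ := by rw [h.pow, h.mul, hn]; simp [upT, om]
    refine ⟨_, T.mem_A ?_ (h.ac2_nz a3), a3⟩
    rw [mul_assoc]
    refine (K.mul_mem (h.mem' w 0)).mul' K.inv ?_
    rw [← cj_cj]
    exact (cj_eq_of_mem_nz (h.hs3.le_nz (h.Z_le hd (a ▸ conj_mem_cj k (h.v_mem 0))) K.cj_le
      (h.mem' w 0))).le
  · obtain ⟨w, hw⟩ := exists_om h.two h1 t
    refine ⟨e w 0, F.N_le_A _ ⟨h.mem' _ _, h.le_nz_Vs (h.mem' _ _)⟩, h.ac2 ?_ ?_⟩
    · rw [h.conj, hw]; simp [loT]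
    · rw [h.conj]; simp [loT, om]

theorem ext_S (hF : F.Sat p) (h : Fr F.S e) (hv : v ≠ 0) (hg : g ∈ F.A (Vs e v))
    (a : g * e 0 1 * g⁻¹ = e 0 d) : ∃ k ∈ F.A F.S, Agree (Vs e v) k g := by
  have hn := F.A_le_nz _ hg
  suffices H : cj g F.S ≤ ai F.S (Vs e v) by
    obtain ⟨k, K, b⟩ := (hF.rec_fn (FN_of_le_nz h.Vs_le h.le_nz_Vs)).ext (R := F.S)
      (T_of_mem_A h.Vs_le hg) (cj_eq_of_mem_A hg) (le_inf le_rfl h.le_nz_Vs) H
    exact ⟨k, (K.mono le_sup_right).mem_A (mem_nz_of_le (K.mono le_sup_right).cj_le), b⟩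
  refine cj_le.2 fun s hs => ?_
  obtain ⟨w, c, rfl⟩ := (h.mem _).1 hs
  obtain ⟨α, γ, a1⟩ := h.mem_Vs.1 (conj_mem_of_mem_nz hn (h.v_mem 0))
  have hα : α • v ≠ 0 := fun b => by
    have hd : d ≠ 0 := by
      rintro rfl
      rw [h.zero, conj_eq_one_iff] at a
      exact one_ne_zero (h.inj _ _ a).2
    obtain ⟨n, hn⟩ := exists_nat (γ / d)
    have a2 : e 0 γ = e 0 d ^ n := by rw [h.pow, hn, smul_zero, div_mul_cancel₀ _ hd]
    rw [b, a2, ← a, conj_pow, mul_left_inj, mul_right_inj, h.pow, h.eq_iff] at a1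
    exact hv (by simpa using a1.1.symm)
  obtain ⟨n, hn'⟩ := exists_nat (2 * om w v)
  obtain ⟨w', hw'⟩ := exists_om h.two hα (n * d)
  refine ⟨mul_mem (mul_mem hn (h.le_nz_Vs hs)) (inv_mem hn), e w' 0, h.mem' _ _, ?_⟩
  have a3 : Agree (Vs e v) (e w c) (g⁻¹ * e w' 0 * g) := agree_sup.2 ⟨agree_zpowers.2 (by
    calc _ = e v 0 * e 0 1 ^ n := by rw [h.conj, h.pow, h.mul, hn']; simp [om]
      _ = g⁻¹ * (g * e v 0 * g⁻¹ * (g * e 0 1 * g⁻¹) ^ n) * g := by rw [conj_pow]; group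
      _ = g⁻¹ * (e w' 0 * (g * e v 0 * g⁻¹) * (e w' 0)⁻¹) * g := by
        rw [← a1, a, h.conj, hw', h.pow, h.mul]; simp [om]
      _ = _ := by group), agree_zpowers.2 (by
    calc _ = g⁻¹ * (e w' 0 * (g * e 0 1 * g⁻¹) * (e w' 0)⁻¹) * g := by
          rw [a, h.conj, h.conj, show d + 2 * om w' 0 = d by simp [om], ← a]
          simp [om, mul_assoc]
      _ = _ := by group)⟩
  simpa [cj_eq_of_mem_nz hn, mul_assoc] using a3.conj g

theorem dat (hF : F.Sat p) (h : Fr F.S e) : Dat (W F h) (R F e) where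
  two := h.two
  pp _ := W_pp hF h
  ne _ a := a.1
  smul _ a _ := R_smul h a
  act _ a _ := R_act h a
  tor v hv a ha := by
    obtain ⟨g, a1, a2⟩ := sl_le (A := gl2 a⁻¹ 0 0 a (by simp [ha])) hF h hv (by simp [dt, ha])
    have b1 := a2 ![1, 0]
    have b2 := a2 ![0, 1]
    simp [fv, gl_smul_apply] at b1 b2
    obtain ⟨k, c1, c2⟩ := ext_S hF h hv.1 a1 b2
    obtain ⟨A, hA⟩ := h.exists_act (F.A_le_nz _ c1)
    obtain ⟨d, c3⟩ := hA v 0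
    refine ⟨A, ⟨k, c1, hA⟩, ?_, ?_⟩
    · exact (h.eq_iff.1 (c3.symm.trans ((c2 _ (h.v_mem 0)).trans b1))).1
    · simpa using (h.eq_iff.1 ((h.act_z hA 1).symm.trans ((c2 _ (h.z_mem_Vs 1)).trans b2))).2

theorem ess_eq (hF : F.Sat p) (h : Fr F.S e) {Q : Subgroup Γ} (hQ : F.Ess Q) :
    ∃ v ∈ R F e, Q = Vs e v := by
  have hZ := hQ.centric.Z_le
  have z1 : e 0 1 ∈ Q := hZ ⟨h.mem' _ _, h.mem_cz.2 rfl⟩
  obtain ⟨g, hg, a⟩ := SetLike.not_le_iff_exists.1 (hF.heis_not h.hs3 hQ)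
  have hn := F.A_le_nz _ hg
  obtain ⟨v, c, a1⟩ := (h.mem _).1 (hQ.le (conj_mem_of_mem_nz hn z1))
  have hv : v ≠ 0 := by
    rintro rfl
    refine a (mem_nz_of_le (cj_le_iff.2 (h.Z_le one_ne_zero (mem_cj.2 ?_))))
    rw [inv_inv, ← a1]
    exact ⟨h.mem' _ _, h.mem_cz.2 rfl⟩
  have a2 : e v c ∈ Q := a1 ▸ conj_mem_of_mem_nz hn z1
  refine ⟨v, mem_R h hv (c := c) (d := 1) ((T_of_mem_A hQ.le (inv_mem hg)).mono (zpowers_le.2 a2))
    (by rw [a1]; group), ?_⟩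
  rw [← h.C_eq (c := c) hv]
  exact le_antisymm (le_inf hQ.le ((hF.heis_ab h.hs3 hQ).trans (cz_anti (zpowers_le.2 a2))))
    fun x hx => hF.heis_mem h.hs3 hQ a2 (mt h.mem_cz.1 hv) hx.1 (mem_cz'.1 hx.2 _ (mem_zpowers _))

theorem le_of (hF : F.Sat p) (hE : E.Sat p) (h : Fr F.S e) (h' : Fr E.S e) (hW : W F h ≤ W E h')
    (hR : R F e ⊆ R E e) : F ≤ E := by
  have hS : F.S = E.S := by ext x; rw [h.mem, h'.mem]
  have key : ∀ g ∈ F.A F.S, g ∈ E.A E.S := fun g hg => by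
    obtain ⟨A, hA⟩ := h.exists_act (F.A_le_nz _ hg)
    obtain ⟨k, a1, a2⟩ := hW ⟨g, hg, hA⟩
    have := h'.inner_of_act (by simpa using (h'.act_inv a2).mul hA)
    simpa using mul_mem a1 (ai_self_le_A le_rfl this)
  refine hF.le_of_ess fun Q hQ g hg => ?_
  rcases hQ with rfl | hQ
  · exact hS ▸ T_of_mem_A le_rfl (key g hg)
  obtain ⟨v, hv, rfl⟩ := ess_eq hF h hQ
  refine T_of_mem_A h'.Vs_le ?_
  have key2 : ∀ g ∈ F.A (Vs e v), ∀ d, g * e 0 1 * g⁻¹ = e 0 d → g ∈ E.A (Vs e v) := by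
    intro g hg d a
    obtain ⟨k, a1, a2⟩ := ext_S hF h hv.1 hg a
    exact a2.symm.mem_A (mem_A_of_le le_rfl (key k a1) h'.Vs_le (a2.mem_nz (F.A_le_nz _ hg)))
  obtain ⟨α, γ, a1⟩ := h.mem_Vs.1 (conj_mem_of_mem_nz (F.A_le_nz _ hg) (h.z_mem_Vs 1))
  by_cases hα : α = 0
  · exact key2 g hg γ (by rw [← a1, hα, zero_smul])
  let M : G2 p := gl2 (γ / α) (-1) 1 0 (by simp)
  obtain ⟨b, b1, b2⟩ := sl_le (A := M) hF h hv (by simp [M, dt])
  obtain ⟨b', c1, c2⟩ := sl_le (A := M) hE h' (hR hv) (by simp [M, dt])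
  have a2 : b ∈ E.A (Vs e v) := Agree.mem_A (fun x hx => by
    obtain ⟨s, t, rfl⟩ := h.mem_Vs.1 hx
    exact (b2 ![s, t]).trans (c2 ![s, t]).symm) c1
  have a3 := key2 (b * g) (mul_mem b1 hg) α (by
    calc _ = b * e (α • v) γ * b⁻¹ := by rw [a1]; group
      _ = b * fv e v ![α, γ] * b⁻¹ := rfl
      _ = _ := by rw [b2]; simp [fv, gl_smul_apply, M, hα])
  simpa using mul_mem (inv_mem a2) a3

theorem eq_of (hF : F.Sat p) (hE : E.Sat p) (h : Fr F.S e) (h' : Fr E.S e) (hW : W F h = W E h')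
    (hR : R F e = R E e) : F = E :=
  le_antisymm (le_of hF hE h h' hW.le hR.le) (le_of hE hF h' h hW.ge hR.ge)

theorem constr (hF : F.Sat p) (h : Fr F.S e) (h1 : ∀ v ∈ R F e, ∀ w ∈ R F e, om v w = 0) :
    F.Constr p := by
  by_cases he : ∃ Q, F.Ess Q
  swap
  · exact ⟨hF, _, hF.nm_S_iff.2 fun P hP => he ⟨P, hP⟩, F.centric_S⟩
  obtain ⟨Q, hQ⟩ := he
  obtain ⟨v, hv, rfl⟩ := ess_eq hF h hQ
  have key : ∀ w ∈ R F e, Vs e w = Vs e v := fun w hw => by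
    obtain ⟨a, rfl⟩ := exists_smul_of_om hv.1 (h1 v hv w hw)
    exact h.Vs_smul (left_ne_zero_of_smul hw.1)
  refine ⟨hF, _, hF.nm_iff_ess.2 fun P hP => ?_, hQ.centric⟩
  rcases hP with rfl | hP
  · refine ⟨h.Vs_le, fun g hg => mem_nz.2 ?_⟩
    obtain ⟨A, hA⟩ := h.exists_act (F.A_le_nz _ hg)
    rw [h.cj_Vs hA, key _ (R_act h ⟨g, hg, hA⟩ hv)]
  · obtain ⟨w, hw, rfl⟩ := ess_eq hF h hP
    rw [key w hw]
    exact ⟨le_rfl, F.A_le_nz _⟩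

omit [Finite Γ] in
theorem mem_W_chg (h : Fr F.S e) : A ∈ W F (h.chg B) ↔ B * A * B⁻¹ ∈ W F h :=
  exists_congr fun _ => and_congr_right fun _ => act_chg B

omit [Finite Γ] in
theorem mem_R_chg : v ∈ R F (chg e B) ↔ B • v ∈ R F e := by
  simp only [R, chg, Set.mem_setOf_eq, mul_zero, smul_zero, Ne, smul_eq_zero_iff_eq]
  refine and_congr_right fun _ => exists_congr fun g => ⟨fun ⟨d, a⟩ => ⟨_, a⟩, fun ⟨d, a⟩ =>
    ⟨d / dt B, by rwa [mul_div_cancel₀ _ (dt_ne B)]⟩⟩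

/-! ### systems of groups -/

omit [Finite Γ] in
theorem mem_W_ofSub {H S : Subgroup Γ} (hS : S ≤ H) (h : Fr (ofSub H S).S e) :
    A ∈ W (ofSub H S) h ↔ ∃ g ∈ H, Act e g A := by
  constructor
  · rintro ⟨g, a1, a2⟩
    rw [ofSub_S, ofSub_A hS le_rfl] at a1
    obtain ⟨-, k, b1, b2⟩ := a1
    exact ⟨k, b1, h.act_agree a2 b2.symm⟩
  · rintro ⟨g, a1, a2⟩
    exact ⟨g, by rw [ofSub_S, ofSub_A hS le_rfl]; exact mem_ai_of_mem a1 (h.act_nz a2), a2⟩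

omit [Finite Γ] in
theorem mem_R_ofSub {H S : Subgroup Γ} (hS : S ≤ H) (h : Fr S e) :
    v ∈ R (ofSub H S) e ↔ v ≠ 0 ∧ ∃ g ∈ H, ∃ d, g * e v 0 * g⁻¹ = e 0 d := by
  refine and_congr_right fun _ => ⟨?_, ?_⟩
  · rintro ⟨g, d, a1, a2⟩
    obtain ⟨-, -, k, b1, b2⟩ := (ofSub_T hS).1 a1
    exact ⟨k, b1, d, (b2 _ (mem_zpowers _)).symm.trans a2⟩
  · rintro ⟨g, a1, d, a2⟩
    exact ⟨g, d, ofSub_T_of_mem (zpowers_le.2 (h.mem' _ _)) a1 (by
      rw [cj_zpowers, a2]; exact zpowers_le.2 (h.mem' _ _)), a2⟩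

end H15.RV
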