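import Cfsg.Agent.H15.RV.B

/-! Classification of the linear data with at least three radical points. -/

set_option autoImplicit false
set_option linter.unusedSectionVars false

namespace H15.RV
open Subgroup H27

variable {p : ℕ} [hp : Fact p.Prime] {W W' : Subgroup (G2 p)} {R R' : Set (V p)} {l : ZMod p}
  {A B : G2 p} {v : V p}

/-- change of basis -/
def cW (W : Subgroup (G2 p)) (B : G2 p) : Subgroup (G2 p) := W.comap (MulAut.conj B).toMonoidHom
/-- change of basis -/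
def cR (R : Set (V p)) (B : G2 p) : Set (V p) := {v | B • v ∈ R}

theorem mem_cW : A ∈ cW W B ↔ B * A * B⁻¹ ∈ W := Iff.rfl
theorem mem_cR : v ∈ cR R B ↔ B • v ∈ R := Iff.rfl

theorem W_chg {Γ : Type*} [Group Γ] {F : H25.FS Γ} {e : V p → ZMod p → Γ} (h : Fr F.S e)
    (B : G2 p) : RV.W F (h.chg B) = cW (RV.W F h) B := Subgroup.ext fun _ => mem_W_chg h

theorem R_chg {Γ : Type*} [Group Γ] {F : H25.FS Γ} {e : V p → ZMod p → Γ} (B : G2 p) :
    RV.R F (chg e B) = cR (RV.R F e) B := Set.ext fun _ => mem_R_chg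

theorem Dat.chg (D : Dat W R) (B : G2 p) : Dat (cW W B) (cR R B) where
  two := D.two
  pp A hA h := by
    have := D.pp _ (mem_cW.1 hA) (by rw [conj_pow, h]; simp)
    simpa using this
  ne v hv h := D.ne _ hv (by rw [h, smul_zero])
  smul v hv a ha := by rw [mem_cR, smul_comm]; exact D.smul _ hv a ha
  act A hA v hv := by
    have := D.act _ (mem_cW.1 hA) _ (mem_cR.1 hv)
    rwa [mul_smul, inv_smul_smul, mul_smul] at this
  tor v hv a ha := by
    obtain ⟨A, a1, a2, a3⟩ := D.tor _ hv a ha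
    refine ⟨B⁻¹ * A * B, by simpa [mem_cW, mul_assoc] using a1, ?_, ?_⟩
    · rw [mul_smul, mul_smul, a2, smul_comm, inv_smul_smul]
    · rw [dt_mul, dt_mul, dt_inv, a3, mul_right_comm, inv_mul_cancel₀ (dt_ne B), one_mul]

/-- three radical points -/
def T3 (R : Set (V p)) : Prop :=
  ∃ u ∈ R, ∃ v ∈ R, ∃ w ∈ R, om u v ≠ 0 ∧ om u w ≠ 0 ∧ om v w ≠ 0

/-- diagonal matrices -/
def dg (a b : ZMod p) (ha : a ≠ 0) (hb : b ≠ 0) : G2 p := gl2 a 0 0 b (by simp [ha, hb])

/-- the normal form -/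
def N1 (W : Subgroup (G2 p)) (R : Set (V p)) (l : ZMod p) : Prop :=
  ∃ hl : l ≠ 0, dg l⁻¹ (l ^ 2) (inv_ne_zero hl) (pow_ne_zero 2 hl) ∈ W ∧ ![1, 0] ∈ R ∧ ![1, 1] ∈ R

theorem eig {μ : ZMod p} (hv : v ≠ 0) (h : A • v = μ • v) :
    μ ^ 2 - (A 0 0 + A 1 1) * μ + dt A = 0 := by
  have h0 := congrFun h 0
  have h1 := congrFun h 1
  simp only [gl_smul_apply, Pi.smul_apply, smul_eq_mul] at h0 h1
  by_cases a : v 0 = 0
  · have b : v 1 ≠ 0 := fun b => hv (vext a b)
    refine mul_left_cancel₀ b ?_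
    rw [dt]
    linear_combination (A 0 0 - μ) * h1 - A 1 0 * h0
  · refine mul_left_cancel₀ a ?_
    rw [dt]
    linear_combination (A 1 1 - μ) * h0 - A 0 1 * h1

theorem norm1 (D : Dat W R) (h : T3 R) (hl : l ≠ 0) (h3 : l ^ 3 ≠ 1) :
    ∃ B, N1 (cW W B) (cR R B) l := by
  obtain ⟨u, hu, v, hv, w, hw, h1, h2, h4⟩ := h
  obtain ⟨A, a1, a2, a3⟩ := D.tor u hu l hl
  have tr := eig (D.ne _ hu) a2
  have b0 := congrFun a2 0
  have b1 := congrFun a2 1
  simp only [gl_smul_apply, Pi.smul_apply, smul_eq_mul] at b0 b1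
  have tr' : A 0 0 + A 1 1 = l⁻¹ + l ^ 2 := by
    rw [a3] at tr
    field_simp at tr ⊢
    linear_combination -tr
  rw [dt] at a3
  have key : ∀ v ∈ R, om u v ≠ 0 → om v (A • v - l⁻¹ • v) ≠ 0 ∨ A • v = l ^ 2 • v := by
    intro v hv h1
    refine or_iff_not_imp_left.2 fun b => ?_
    obtain ⟨μ, c⟩ := exists_smul_of_om (D.ne _ hv) (not_not.1 b)
    replace c : A • v = (μ + l⁻¹) • v := by rw [add_smul, ← c, sub_add_cancel]
    have := om_smul A u v
    rw [a2, c, dt, a3] at this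
    have c2 : μ + l⁻¹ = l ^ 2 := by
      refine mul_right_cancel₀ h1 ?_
      simp only [om, Pi.smul_apply, smul_eq_mul] at this ⊢
      field_simp at this ⊢
      linear_combination this
    rw [c, c2]
  have main : ∀ v ∈ R, om u v ≠ 0 → om v (A • v - l⁻¹ • v) ≠ 0 →
      ∃ B, N1 (cW W B) (cR R B) l := by
    intro v hv h1 h2
    have hd : l ^ 2 - l⁻¹ ≠ 0 := fun b => h3 (by
      field_simp at b
      linear_combination b)
    set y : V p := (l ^ 2 - l⁻¹)⁻¹ • (A • v - l⁻¹ • v) with hy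
    have c1 : A • y = l ^ 2 • y := by
      rw [hy, smul_comm A, smul_comm (l ^ 2)]
      congr 1
      refine vext ?_ ?_ <;>
        simp only [gl_smul_apply, Pi.smul_apply, smul_eq_mul, Pi.sub_apply]
      · linear_combination (A 0 0 * v 0 + A 0 1 * v 1) * tr' - v 0 * a3 +
          v 0 * l * mul_inv_cancel₀ hl
      · linear_combination (A 1 0 * v 0 + A 1 1 * v 1) * tr' - v 1 * a3 +
          v 1 * l * mul_inv_cancel₀ hl
    have c2 : A • (v - y) = l⁻¹ • (v - y) := by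
      rw [smul_sub, smul_sub, c1, sub_eq_sub_iff_sub_eq_sub, ← sub_smul, hy, smul_inv_smul₀ hd]
    have c3 : om (v - y) y ≠ 0 := fun b => h2 (by
      refine mul_left_cancel₀ (inv_ne_zero hd) ?_
      simp only [om, hy, Pi.smul_apply, smul_eq_mul, Pi.sub_apply] at b ⊢
      linear_combination b)
    have c4 : om u (v - y) = 0 := by
      have := om_smul A u (v - y)
      rw [a2, c2, dt, a3] at this
      refine mul_left_cancel₀ (sub_ne_zero.2 h3) ?_
      simp only [om, Pi.smul_apply, smul_eq_mul] at this ⊢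
      field_simp at this
      linear_combination -this
    obtain ⟨t, c5⟩ := exists_smul_of_om (D.ne _ hu) c4
    let B : G2 p := gl2 ((v - y) 0) (y 0) ((v - y) 1) (y 1) (by
      rw [om] at c3; rwa [mul_comm (y 0)])
    have d1 : B • ![1, 0] = v - y := vext (by simp [B, gl_smul_apply]) (by simp [B, gl_smul_apply])
    have d2 : B • ![0, 1] = y := vext (by simp [B, gl_smul_apply]) (by simp [B, gl_smul_apply])
    refine ⟨B, hl, ?_, ?_, ?_⟩
    · rw [mem_cW]
      convert a1 using 1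
      rw [mul_inv_eq_iff_eq_mul]
      have e0 := congrFun c2 0
      have e1 := congrFun c2 1
      have e2 := congrFun c1 0
      have e3 := congrFun c1 1
      simp only [gl_smul_apply, Pi.smul_apply, smul_eq_mul] at e0 e1 e2 e3
      apply gl_ext <;> simp only [gl_mul_apply, B, dg, gl2_00, gl2_01, gl2_10, gl2_11]
      · linear_combination -e0
      · linear_combination -e2
      · linear_combination -e1
      · linear_combination -e3
    · rw [mem_cR, d1, c5]
      refine D.smul _ hu _ fun b => c3 ?_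
      rw [c5, b]; simp [om]
    · rw [mem_cR, show (![1, 1] : V p) = ![1, 0] + ![0, 1] from vext (by simp) (by simp), smul_add,
        d1, d2, sub_add_cancel]
      exact hv
  rcases key v hv h1 with b | b
  · exact main v hv h1 b
  rcases key w hw h2 with c | c
  · exact main w hw h2 c
  have := om_smul A v w
  rw [b, c, dt, a3] at this
  refine absurd (mul_right_cancel₀ (mul_ne_zero hl h4) ?_) h3
  simp only [om, Pi.smul_apply, smul_eq_mul] at this ⊢
  linear_combination this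

theorem Dat.not_dvd (D : Dat W R) : ¬ p ∣ Nat.card (W.map pgm) := fun h => by
  obtain ⟨x, hx⟩ := exists_prime_orderOf_dvd_card' p (h.trans (card_map_dvd W _))
  have := D.pp x x.2 (by
    have := congrArg Subtype.val (pow_orderOf_eq_one x)
    rwa [hx] at this)
  rw [show x = 1 from Subtype.ext this, orderOf_one] at hx
  exact hp.out.one_lt.ne hx

theorem Dat.dich (D : Dat W R) : (∀ A ∈ W, ∀ B ∈ W, pgm A ^ 2 ≠ 1 → pgm B ^ 2 ≠ 1 →
    pgm A * pgm B = pgm B * pgm A) ∨ Nonempty (W.map pgm ≃* alternatingGroup (Fin 4)) ∨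
      Nonempty (W.map pgm ≃* Equiv.Perm (Fin 4)) ∨
        Nonempty (W.map pgm ≃* alternatingGroup (Fin 5)) := by
  have hn := D.not_dvd
  have : Finite (PG (ZMod p)) := Finite.of_surjective _ Matrix.ProjGenLinGroup.mk_surjective
  rcases dickson_hom p (W.map pgm).subtype (subtype_injective _) with ⟨h, -⟩ | ⟨h, -⟩ |
    ⟨c, -, -, h⟩ | ⟨-, h⟩ | ⟨rfl, ⟨f⟩⟩ | ⟨c, F₀, h1, h2, -⟩
  · refine .inl fun A hA B hB _ _ => ?_
    letI := h.commGroup
    exact congrArg Subtype.val (mul_comm (⟨_, mem_map_of_mem _ hA⟩ : W.map pgm)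
      ⟨_, mem_map_of_mem _ hB⟩)
  · exact absurd h hn
  · refine .inl fun A hA B hB h1 h2 => ?_
    have key : ∀ A (hA : A ∈ W), pgm A ^ 2 ≠ 1 → (⟨_, mem_map_of_mem _ hA⟩ : W.map pgm) ∈
        zpowers c := fun A hA h1 => by_contra fun b =>
      h1 (by rw [sq]; exact congrArg Subtype.val (h _ b))
    obtain ⟨i, hi⟩ := key A hA h1
    obtain ⟨j, hj⟩ := key B hB h2
    have := zpow_mul_comm c i j
    simp only at hi hj
    rw [hi, hj] at this
    exact congrArg Subtype.val this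
  · exact .inr h
  · refine absurd ?_ hn
    rw [Nat.card_congr f.toEquiv, nat_card_alternatingGroup, Nat.card_fin]
    decide
  · rw [h2, Nat.factorization_eq_zero_of_not_dvd hn, pow_zero] at h1
    omega

theorem pow_eq_one_of {k : ℕ} (hv : v ≠ 0) (hl : l ≠ 0) (h1 : A • v = l⁻¹ • v) (h2 : dt A = l)
    (h : pgm A ^ k = 1) : l ^ (3 * k) = 1 := by
  rw [← map_pow, pg_mk_eq_one_iff] at h
  have a1 : (A ^ k) • v = l⁻¹ ^ k • v := by
    clear h
    induction k with
    | zero => simp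
    | succ k ih => rw [pow_succ', mul_smul, ih, smul_comm, h1, ← mul_smul, pow_succ]
  have a2 := dt_pow A k
  have a3 : (A ^ k) 1 1 = l⁻¹ ^ k := by
    refine smul_left_injective _ hv ?_
    simp only
    rw [← a1]
    refine vext ?_ ?_ <;> simp only [gl_smul_apply, Pi.smul_apply, smul_eq_mul, h.1, h.2.1, h.2.2] <;>
      ring
  rw [dt, h.1, h.2.2, a3, h2] at a2
  have a4 : l ^ k * l⁻¹ ^ k = 1 := by rw [← mul_pow, mul_inv_cancel₀ hl, one_pow]
  rw [mul_comm, pow_mul]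
  linear_combination (l ^ k * l⁻¹ ^ k + 1) * a4 - (l ^ k) ^ 2 * a2

theorem pow_four (hv : v ≠ 0) (hl : l ≠ 0) (h1 : A • v = l⁻¹ • v) (h2 : dt A = l)
    (h : l ^ 6 = -1) : pgm A ^ 4 = 1 := by
  have a := eig hv h1
  have b : (A 0 0 + A 1 1) ^ 2 = 2 * dt A := by
    rw [h2] at a ⊢
    have : A 0 0 + A 1 1 = l⁻¹ + l ^ 2 := by
      field_simp at a ⊢
      linear_combination -a
    rw [this]
    field_simp
    linear_combination h
  rw [dt] at b
  rw [← map_pow, pg_mk_eq_one_iff, show 4 = 1 + 1 + 1 + 1 from rfl]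
  simp only [pow_succ, pow_zero, one_mul, gl_mul_apply]
  refine ⟨?_, ?_, ?_⟩
  · linear_combination A 0 1 * (A 0 0 + A 1 1) * b
  · linear_combination A 1 0 * (A 0 0 + A 1 1) * b
  · linear_combination (A 0 0 - A 1 1) * (A 0 0 + A 1 1) * b

theorem dg_smul {a b : ZMod p} (ha : a ≠ 0) (hb : b ≠ 0) :
    dg a b ha hb • (![1, 0] : V p) = a • ![1, 0] :=
  vext (by simp [dg, gl_smul_apply]) (by simp [dg, gl_smul_apply])

theorem dt_a1 (hl : l ≠ 0) : dt (dg l⁻¹ (l ^ 2) (inv_ne_zero hl) (pow_ne_zero 2 hl)) = l := by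
  simp only [dt, dg, gl2_00, gl2_01, gl2_10, gl2_11]
  field_simp
  ring

theorem Dat.exc (D : Dat W R) (h : N1 W R l) (h6 : l ^ 6 ≠ 1) :
    Nonempty (W.map pgm ≃* alternatingGroup (Fin 4)) ∨
      Nonempty (W.map pgm ≃* Equiv.Perm (Fin 4)) ∨
        Nonempty (W.map pgm ≃* alternatingGroup (Fin 5)) := by
  obtain ⟨hl, h1, h2, h3⟩ := h
  refine D.dich.resolve_left fun a => ?_
  obtain ⟨A, a1, a2, a3⟩ := D.tor _ h3 l hl
  have := a _ h1 _ a1 (fun b => h6 (pow_eq_one_of (D.ne _ h2) hl (dg_smul _ _) (dt_a1 hl) b))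
    fun b => h6 (pow_eq_one_of (D.ne _ h3) hl a2 a3 b)
  rw [← map_mul, ← map_mul, pg_mk_eq_mk_iff] at this
  obtain ⟨s, -, hs⟩ := this
  have b00 := hs 0 0
  have b01 := hs 0 1
  have b10 := hs 1 0
  have b11 := hs 1 1
  have c0 := congrFun a2 0
  have c1 := congrFun a2 1
  simp only [gl_mul_apply, dg, gl2_00, gl2_01, gl2_10, gl2_11, gl_smul_apply, Pi.smul_apply,
    smul_eq_mul, Matrix.cons_val_zero, Matrix.cons_val_one, mul_zero, zero_mul, add_zero, zero_add,
    mul_one] at b00 b01 b10 b11 c0 c1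
  rw [dt] at a3
  field_simp at b00 b01 b10 b11 c0 c1
  have h3' : l ^ 3 - 1 ≠ 0 := fun b => h6 (by linear_combination (l ^ 3 + 1) * b)
  by_cases hs1 : s = 1
  · subst hs1
    have d1 : A 0 1 = 0 := mul_right_cancel₀ h3' (by linear_combination b01)
    have d2 : A 1 0 = 0 := mul_right_cancel₀ h3' (by linear_combination -b10)
    rw [d1] at c0 a3
    rw [d2] at c1
    exact h3' (by linear_combination -l ^ 2 * a3 + l * A 1 1 * c0 + c1)
  · have d1 : A 0 0 = 0 := mul_right_cancel₀ (sub_ne_zero.2 hs1) (by linear_combination -b00)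
    have d2 : A 1 1 = 0 := mul_right_cancel₀ (sub_ne_zero.2 hs1) (by linear_combination -b11)
    rw [d1] at c0
    rw [d2] at c1
    exact h6 (by linear_combination l ^ 3 * (l * b01 - (l ^ 3 - s) * c0) -
      (l * b10 - (1 - l ^ 3 * s) * c1))

theorem perm4_pow : ∀ g : Equiv.Perm (Fin 4), g ^ 4 = 1 ∨ g ^ 3 = 1 := by decide +kernel

theorem alt5_pow : ∀ g : Equiv.Perm (Fin 5), Equiv.Perm.sign g = 1 →
    g ^ 2 = 1 ∨ g ^ 3 = 1 ∨ g ^ 5 = 1 := by decide +kernel

theorem alt4_pow : ∀ g : Equiv.Perm (Fin 4), Equiv.Perm.sign g = 1 →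
    g ^ 2 = 1 ∨ g ^ 3 = 1 := by decide +kernel

theorem Dat.exc' (D : Dat W R) (h : N1 W R l) (h6 : l ^ 6 ≠ 1) :
    (l ^ 12 = 1 ∧ Nonempty (W.map pgm ≃* Equiv.Perm (Fin 4))) ∨ l ^ 9 = 1 ∨ l ^ 15 = 1 := by
  have := D.exc h h6
  obtain ⟨hl, h1, h2, -⟩ := h
  have key : ∀ k, (⟨_, mem_map_of_mem _ h1⟩ : W.map pgm) ^ k = 1 → l ^ (3 * k) = 1 := fun k b =>
    pow_eq_one_of (D.ne _ h2) hl (dg_smul _ _) (dt_a1 hl) (congrArg Subtype.val b)
  rcases this with ⟨⟨f⟩⟩ | ⟨⟨f⟩⟩ | ⟨⟨f⟩⟩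
  · rcases alt4_pow _ (f ⟨_, mem_map_of_mem _ h1⟩).2 with a | a
    · exact absurd (key 2 (f.injective (by rw [map_pow, map_one]; exact Subtype.ext a))) h6
    · exact .inr (.inl (key 3 (f.injective (by rw [map_pow, map_one]; exact Subtype.ext a))))
  · rcases perm4_pow (f ⟨_, mem_map_of_mem _ h1⟩) with a | a
    · exact .inl ⟨key 4 (f.injective (by rw [map_pow, map_one]; exact a)), ⟨f⟩⟩
    · exact .inr (.inl (key 3 (f.injective (by rw [map_pow, map_one]; exact a))))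
  · rcases alt5_pow _ (f ⟨_, mem_map_of_mem _ h1⟩).2 with a | a | a
    · exact absurd (key 2 (f.injective (by rw [map_pow, map_one]; exact Subtype.ext a))) h6
    · exact .inr (.inl (key 3 (f.injective (by rw [map_pow, map_one]; exact Subtype.ext a))))
    · exact .inr (.inr (key 5 (f.injective (by rw [map_pow, map_one]; exact Subtype.ext a))))

theorem small_primes {q : ℕ} (pp : q.Prime) (p2 : q ≠ 2) (h7 : q ≠ 7) (k : ℕ) (h0 : 0 < k)
    (h1 : k ≤ 15) (h2 : q - 1 ∣ k) (h3 : k = 6 ∨ k = 12 ∨ k = 9 ∨ k = 15) :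
    q = 3 ∨ q = 5 ∨ q = 13 := by
  have := Nat.le_of_dvd h0 h2
  have p1 := pp.two_le
  have p16 : q ≤ 16 := by omega
  interval_cases q <;> first | omega | (exfalso; revert pp; decide)

theorem Dat.prime (D : Dat W R) (h : T3 R) (h7 : p ≠ 7) : p = 3 ∨ p = 5 ∨ p = 13 := by
  obtain ⟨g, hg⟩ := IsCyclic.exists_generator (α := (ZMod p)ˣ)
  have o := orderOf_eq_card_of_forall_mem_zpowers hg
  rw [Nat.card_eq_fintype_card, ZMod.card_units] at o
  have key : ∀ k, (g : ZMod p) ^ k = 1 → p - 1 ∣ k := fun k a =>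
    o ▸ orderOf_dvd_of_pow_eq_one (Units.ext (by simpa using a))
  have p2 : p ≠ 2 := by
    rintro rfl
    exact D.two rfl
  have fin := small_primes hp.out p2 h7
  by_cases h6 : (g : ZMod p) ^ 6 = 1
  · exact fin 6 (by omega) (by omega) (key _ h6) (by omega)
  obtain ⟨B, hB⟩ := norm1 D h g.ne_zero fun a => h6 (by rw [show 6 = 3 * 2 from rfl, pow_mul, a, one_pow])
  rcases (D.chg B).exc' hB h6 with ⟨a, -⟩ | a | a
  · exact fin 12 (by omega) (by omega) (key _ a) (by omega)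
  · exact fin 9 (by omega) (by omega) (key _ a) (by omega)
  · exact fin 15 (by omega) (by omega) (key _ a) (by omega)

end H15.RV
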