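import Cfsg.Agent.H15.RV.C

/-! Uniqueness of the linear data with at least three radical points. -/

set_option autoImplicit false
set_option linter.unusedSectionVars false

namespace H15.RV
open Subgroup H27

variable {p : ℕ} [hp : Fact p.Prime] {W W' : Subgroup (G2 p)} {R R' : Set (V p)} {l : ZMod p}
  {A B : G2 p} {v : V p}

theorem perm4_sq : ∀ g k : Equiv.Perm (Fin 4), g ^ 4 = 1 → k ^ 4 = 1 →
    g ^ 2 * k ^ 2 = k ^ 2 * g ^ 2 := by decide +kernel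

theorem perm4_gen : ∀ g k : Equiv.Perm (Fin 4), g ^ 4 = 1 → k ^ 4 = 1 → g ^ 2 ≠ 1 → k ^ 2 ≠ 1 →
    g * k ≠ k * g → ∀ x, ∃ i j m : Fin 4, x = g ^ i.val * k ^ j.val * g ^ m.val := by decide +kernel

/-- the first generator -/
def a1 (hl : l ≠ 0) : G2 p := dg l⁻¹ (l ^ 2) (inv_ne_zero hl) (pow_ne_zero 2 hl)

/-- the second generator -/
def a2 (hl : l ≠ 0) (h2 : (2 : ZMod p) ≠ 0) : G2 p :=
  gl2 ((l⁻¹ + l ^ 2) / 2) ((l⁻¹ - l ^ 2) / 2) ((l⁻¹ - l ^ 2) / 2) ((l⁻¹ + l ^ 2) / 2) (by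
    rw [show (l⁻¹ + l ^ 2) / 2 * ((l⁻¹ + l ^ 2) / 2) - (l⁻¹ - l ^ 2) / 2 * ((l⁻¹ - l ^ 2) / 2) = l by
      grind]
    exact hl)

theorem ne_one_of_six (h2 : (2 : ZMod p) ≠ 0) (h6 : l ^ 6 = -1) : l ^ 6 ≠ 1 := by grind

theorem Dat.s4 (D : Dat W R) (h : N1 W R l) (h6 : l ^ 6 = -1) :
    Nonempty (W.map pgm ≃* Equiv.Perm (Fin 4)) := by
  have := D.two
  rcases D.exc' h (ne_one_of_six D.two h6) with ⟨-, a⟩ | a | a
  · exact a
  · grind
  · grind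

theorem Dat.sq_comm (D : Dat W R) (h : N1 W R l) (h6 : l ^ 6 = -1) (hA : A ∈ W) (hB : B ∈ W)
    (h1 : pgm A ^ 4 = 1) (h2 : pgm B ^ 4 = 1) :
    ∃ s : ZMod p, ∀ i j, (B * B * (A * A)) i j = s * (A * A * (B * B)) i j := by
  obtain ⟨f⟩ := D.s4 h h6
  have := perm4_sq (f ⟨_, mem_map_of_mem _ hA⟩) (f ⟨_, mem_map_of_mem _ hB⟩)
    (by rw [← map_pow, ← map_one f]; exact congrArg f (Subtype.ext h1))
    (by rw [← map_pow, ← map_one f]; exact congrArg f (Subtype.ext h2))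
  simp only [← map_pow, ← map_mul] at this
  have := congrArg Subtype.val (f.injective this)
  simp only [coe_mul, sq, ← map_mul] at this
  obtain ⟨s, -, hs⟩ := (pg_mk_eq_mk_iff _ _).1 this
  exact ⟨s, hs⟩

theorem a1_four (hl : l ≠ 0) (h6 : l ^ 6 = -1) : pgm (a1 hl) ^ 4 = 1 :=
  pow_four (v := ![1, 0]) (by simp) hl (dg_smul _ _) (dt_a1 hl) h6

theorem a2_smul (hl : l ≠ 0) (h2 : (2 : ZMod p) ≠ 0) :
    a2 hl h2 • (![1, 1] : V p) = l⁻¹ • ![1, 1] := by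
  refine vext ?_ ?_ <;> simp [a2, gl_smul_apply] <;> grind

theorem dt_a2 (hl : l ≠ 0) (h2 : (2 : ZMod p) ≠ 0) : dt (a2 hl h2) = l := by
  simp only [dt, a2, gl2_00, gl2_01, gl2_10, gl2_11]
  grind

theorem a2_four (hl : l ≠ 0) (h2 : (2 : ZMod p) ≠ 0) (h6 : l ^ 6 = -1) : pgm (a2 hl h2) ^ 4 = 1 :=
  pow_four (v := ![1, 1]) (by simp) hl (a2_smul _ _) (dt_a2 hl h2) h6

theorem alg1 {K : Type*} [Field K] {l s a b c d : K} (h2 : (2 : K) ≠ 0) (hl : l ≠ 0)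
    (h6 : l ^ 6 = -1) (tr : a + d = l⁻¹ + l ^ 2) (hd : a * d - b * c = l)
    (h00 : (a * a + b * c) * (l⁻¹ * l⁻¹) = s * (l⁻¹ * l⁻¹ * (a * a + b * c)))
    (h01 : (a * b + b * d) * (l ^ 2 * l ^ 2) = s * (l⁻¹ * l⁻¹ * (a * b + b * d)))
    (h10 : (c * a + d * c) * (l⁻¹ * l⁻¹) = s * (l ^ 2 * l ^ 2 * (c * a + d * c))) :
    c * b + d * d = -(a * a + b * c) ∧
      (a * a + b * c = 0 ∨ (a * b + b * d = 0 ∧ c * a + d * c = 0)) := by
  refine ⟨by grind, or_iff_not_imp_left.2 fun h => ?_⟩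
  obtain rfl : s = 1 := by grind
  constructor <;> grind

theorem Dat.sq_a1 (D : Dat W R) (h : N1 W R l) (h6 : l ^ 6 = -1) (hA : A ∈ W) (hv : v ≠ 0)
    (h1 : A • v = l⁻¹ • v) (h2 : dt A = l) : A 0 0 + A 1 1 = l⁻¹ + l ^ 2 ∧
      (A * A) 1 1 = -(A * A) 0 0 ∧ ((A * A) 0 0 = 0 ∨ ((A * A) 0 1 = 0 ∧ (A * A) 1 0 = 0)) := by
  obtain ⟨hl, h3, -⟩ := id h
  obtain ⟨s, hs⟩ := D.sq_comm h h6 h3 hA (a1_four hl h6) (pow_four hv hl h1 h2 h6)
  have b00 := hs 0 0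
  have b01 := hs 0 1
  have b10 := hs 1 0
  have tr := eig hv h1
  rw [h2] at tr
  replace tr : A 0 0 + A 1 1 = l⁻¹ + l ^ 2 := by grind
  simp only [gl_mul_apply, dg, gl2_00, gl2_01, gl2_10, gl2_11, mul_zero, zero_mul, add_zero,
    zero_add] at b00 b01 b10 ⊢
  exact ⟨tr, alg1 D.two hl h6 tr h2 b00 b01 b10⟩

theorem Dat.a2_mem (D : Dat W R) (h : N1 W R l) (h6 : l ^ 6 = -1) : a2 h.1 D.two ∈ W := by
  obtain ⟨hl, -, -, h3⟩ := id h
  obtain ⟨A, a1, a2, a3⟩ := D.tor _ h3 l hl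
  obtain ⟨b1, b2, b3⟩ := D.sq_a1 h h6 a1 (by simp) a2 a3
  have c0 := congrFun a2 0
  have c1 := congrFun a2 1
  have := D.two
  simp only [gl_mul_apply, gl_smul_apply, Pi.smul_apply, smul_eq_mul, Matrix.cons_val_zero,
    Matrix.cons_val_one, mul_one] at b1 b2 b3 c0 c1
  convert a1 using 1
  replace b3 : A 0 0 * A 0 0 + A 0 1 * A 1 0 = 0 := by grind
  apply gl_ext <;> simp only [RV.a2, gl2_00, gl2_01, gl2_10, gl2_11] <;> grind

theorem Dat.R_bound (D : Dat W R) (h : N1 W R l) (h6 : l ^ 6 = -1) (hv : v ∈ R) :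
    v 0 * v 1 = 0 ∨ v 0 ^ 4 = v 1 ^ 4 := by
  obtain ⟨hl, -⟩ := id h
  obtain ⟨A, a1, a2, a3⟩ := D.tor _ hv l hl
  obtain ⟨-, b2, b3⟩ := D.sq_a1 h h6 a1 (D.ne _ hv) a2 a3
  obtain ⟨s, hs⟩ := D.sq_comm h h6 (D.a2_mem h h6) a1 (a2_four hl D.two h6)
    (pow_four (D.ne _ hv) hl a2 a3 h6)
  have a4 : (A * A) • v = (l⁻¹ * l⁻¹) • v := by rw [mul_smul, a2, smul_comm, a2, mul_smul]
  have c0 := congrFun a4 0
  have c1 := congrFun a4 1
  have := D.two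
  have e : RV.a2 hl D.two * RV.a2 hl D.two = gl2 0 (l⁻¹ * l⁻¹) (l⁻¹ * l⁻¹) 0 (by simp [hl]) := by
    apply gl_ext <;> simp only [RV.a2, gl_mul_apply, gl2_00, gl2_01, gl2_10, gl2_11] <;> grind
  have b00 := hs 0 0
  have b11 := hs 1 1
  rw [e] at b00 b11
  generalize A * A = X at *
  simp only [gl_mul_apply, gl_smul_apply, Pi.smul_apply, smul_eq_mul, gl2_00, gl2_01, gl2_10, gl2_11]
    at b00 b11 c0 c1
  rcases b3 with b3 | b3
  · right
    have d1 : X 0 1 = s * X 1 0 := by grind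
    have d2 : X 1 0 = s * X 0 1 := by grind
    have d3 : X 0 1 ^ 2 = X 1 0 ^ 2 := by grind
    have d4 : X 0 1 * v 1 * l ^ 2 = v 0 := by grind
    have d5 : X 1 0 * v 0 * l ^ 2 = v 1 := by grind
    grind
  · left
    grind

theorem Dat.R_all (D : Dat W R) (h : N1 W R l) (h6 : l ^ 6 = -1) (hv : v ≠ 0)
    (h1 : v 0 * v 1 = 0 ∨ v 0 ^ 4 = v 1 ^ 4) : v ∈ R := by
  obtain ⟨hl, g1, e1, e3⟩ := id h
  have g2 := D.a2_mem h h6
  have := D.two
  have key : ∀ u ∈ R, om u v = 0 → v ∈ R := fun u hu a => by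
    obtain ⟨t, rfl⟩ := exists_smul_of_om (D.ne _ hu) a
    exact D.smul _ hu _ (left_ne_zero_of_smul hv)
  have f1 := D.act _ g2 _ (D.act _ g2 _ e1)
  have f2 := D.act _ g1 _ e3
  have f3 := D.act _ g1 _ f2
  have f4 := D.act _ g1 _ f3
  have c : v 1 = 0 ∨ v 0 = 0 ∨ v 1 = v 0 ∨ v 1 = l ^ 3 * v 0 ∨ v 1 = -v 0 ∨ v 1 = -l ^ 3 * v 0 := by
    rcases h1 with h1 | h1
    · exact (mul_eq_zero.1 h1).elim (fun a => .inr (.inl a)) .inl
    · have : (v 1 - v 0) * ((v 1 - l ^ 3 * v 0) * ((v 1 - -v 0) * (v 1 - -l ^ 3 * v 0))) = 0 := by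
        grind
      simp only [mul_eq_zero, sub_eq_zero] at this
      exact .inr (.inr this)
  rcases c with c | c | c | c | c | c
  · exact key _ e1 (by simp [om, c])
  · refine key _ f1 ?_
    simp only [om, gl_smul_apply, a2, gl2_00, gl2_01, gl2_10, gl2_11, Matrix.cons_val_zero,
      Matrix.cons_val_one]
    grind
  · exact key _ e3 (by simp [om, c])
  · refine key _ f2 ?_
    simp only [om, gl_smul_apply, dg, gl2_00, gl2_01, gl2_10, gl2_11, Matrix.cons_val_zero,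
      Matrix.cons_val_one]
    grind
  · refine key _ f3 ?_
    simp only [om, gl_smul_apply, dg, gl2_00, gl2_01, gl2_10, gl2_11, Matrix.cons_val_zero,
      Matrix.cons_val_one]
    grind
  · refine key _ f4 ?_
    simp only [om, gl_smul_apply, dg, gl2_00, gl2_01, gl2_10, gl2_11, Matrix.cons_val_zero,
      Matrix.cons_val_one]
    grind

theorem dg_mul {a b c d : ZMod p} (ha : a ≠ 0) (hb : b ≠ 0) (hc : c ≠ 0) (hd : d ≠ 0) :
    dg a b ha hb * dg c d hc hd = dg (a * c) (b * d) (mul_ne_zero ha hc) (mul_ne_zero hb hd) := by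
  apply gl_ext <;> simp [-Units.val_mul, dg, gl_mul_apply]

theorem dg_pow {a b : ZMod p} (ha : a ≠ 0) (hb : b ≠ 0) (n : ℕ) :
    dg a b ha hb ^ n = dg (a ^ n) (b ^ n) (pow_ne_zero n ha) (pow_ne_zero n hb) := by
  induction n with
  | zero => apply gl_ext <;> simp [dg]
  | succ n ih => simp only [pow_succ, ih, dg_mul]

theorem Dat.sc_mem (D : Dat W R) (h : N1 W R l) (h6 : l ^ 6 = -1)
    (hg : ∀ a : ZMod p, a ≠ 0 → ∃ n : ℕ, l ^ n = a) {a : ZMod p} (ha : a ≠ 0) : dg a a ha ha ∈ W := by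
  obtain ⟨n, rfl⟩ := hg a ha
  obtain ⟨hl, g1, -⟩ := id h
  have g2 := D.a2_mem h h6
  have := D.two
  rw [← dg_pow hl hl]
  refine pow_mem ?_ n
  have e : a1 hl * a2 hl D.two = gl2 (-l ^ 4 * (1 + l ^ 3) / 2) (-l ^ 4 * (1 - l ^ 3) / 2)
      (-l ^ 4 * (1 + l ^ 3) / 2) (-l ^ 4 * (l ^ 3 - 1) / 2) (by grind) := by
    apply gl_ext <;> simp only [a1, a2, dg, gl_mul_apply, gl2_00, gl2_01, gl2_10, gl2_11] <;> grind
  have a3 := mul_mem (pow_mem (mul_mem g1 g2) 3) (pow_mem g1 8)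
  convert a3 using 1
  change _ = (a1 hl * a2 hl D.two) ^ 3 * _
  rw [e, dg_pow, pow_three]
  apply gl_ext <;> simp only [dg, gl_mul_apply, gl2_00, gl2_01, gl2_10, gl2_11] <;> grind

theorem Dat.cmp (D : Dat W R) (D' : Dat W' R') (h : N1 W R l) (h' : N1 W' R' l) (h6 : l ^ 6 = -1)
    (hg : ∀ a : ZMod p, a ≠ 0 → ∃ n : ℕ, l ^ n = a) : W ≤ W' ∧ R ⊆ R' := by
  refine ⟨fun A hA => ?_, fun v hv => D'.R_all h' h6 (D.ne _ hv) (D.R_bound h h6 hv)⟩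
  obtain ⟨f⟩ := D.s4 h h6
  obtain ⟨hl, g1, -⟩ := id h
  have g2 := D.a2_mem h h6
  have h2 := D.two
  have n6 := ne_one_of_six h2 h6
  obtain ⟨i, j, m, e⟩ := perm4_gen (f ⟨_, mem_map_of_mem _ g1⟩) (f ⟨_, mem_map_of_mem _ g2⟩)
    (by rw [← map_pow, ← map_one f]; exact congrArg f (Subtype.ext (a1_four hl h6)))
    (by rw [← map_pow, ← map_one f]; exact congrArg f (Subtype.ext (a2_four hl h2 h6)))
    (by
      rw [← map_pow, Ne, map_eq_one_iff f f.injective]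
      exact fun b => n6 (pow_eq_one_of (v := ![1, 0]) (by simp) hl (dg_smul _ _) (dt_a1 hl)
        (congrArg Subtype.val b)))
    (by
      rw [← map_pow, Ne, map_eq_one_iff f f.injective]
      exact fun b => n6 (pow_eq_one_of (v := ![1, 1]) (by simp) hl (a2_smul _ _) (dt_a2 hl h2)
        (congrArg Subtype.val b)))
    (by
      rw [← map_mul, ← map_mul]
      intro b
      have := congrArg Subtype.val (f.injective b)
      simp only [coe_mul, ← map_mul] at this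
      obtain ⟨s, -, hs⟩ := (pg_mk_eq_mk_iff _ _).1 this
      have b00 := hs 0 0
      have b01 := hs 0 1
      simp only [a2, dg, gl_mul_apply, gl2_00, gl2_01, gl2_10, gl2_11] at b00 b01
      have c1 : l⁻¹ + l ^ 2 ≠ 0 := by grind
      have c2 : l⁻¹ - l ^ 2 ≠ 0 := by grind
      obtain rfl : s = 1 := by grind
      grind)
    (f ⟨_, mem_map_of_mem _ hA⟩)
  simp only [← map_pow, ← map_mul] at e
  have := congrArg Subtype.val (f.injective e)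
  simp only [coe_mul, coe_pow, ← map_pow, ← map_mul] at this
  obtain ⟨s, hs, e'⟩ := (pg_mk_eq_mk_iff _ _).1 this.symm
  have a3 := mul_mem (D'.sc_mem h' h6 hg hs) (mul_mem (mul_mem (pow_mem h'.2.1 i)
    (pow_mem (D'.a2_mem h' h6) j)) (pow_mem h'.2.1 m))
  convert a3 using 1
  apply gl_ext <;> rw [gl_mul_apply, e'] <;> simp [-Units.val_mul, dg]

end H15.RV
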