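import Cfsg.Agent.H15.RV.D

/-! The linear data for `p = 3`. -/

set_option autoImplicit false
set_option linter.unusedSectionVars false
set_option synthInstance.maxSize 4096

namespace H15.RV
open Subgroup H27

section
variable {p : ℕ} [hp : Fact p.Prime] {W : Subgroup (G2 p)} {R : Set (V p)} {A B : G2 p} {t : ZMod p}

theorem gl_eq_iff : A = B ↔ A 0 0 = B 0 0 ∧ A 0 1 = B 0 1 ∧ A 1 0 = B 1 0 ∧ A 1 1 = B 1 1 :=
  ⟨fun h => by simp [h], fun h => gl_ext h.1 h.2.1 h.2.2.1 h.2.2.2⟩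

theorem gl_eq_one_iff : A = 1 ↔ A 0 0 = 1 ∧ A 0 1 = 0 ∧ A 1 0 = 0 ∧ A 1 1 = 1 := by
  rw [gl_eq_iff]; simp

theorem Dat.up (D : Dat W R) (h : upT t ∈ W) : t = 0 := by
  have : ∀ n : ℕ, upT t ^ n = upT (n * t) := fun n => by
    induction n with
    | zero => simp [upT_zero]
    | succ n ih => rw [pow_succ, ih, ← upT_add]; congr 1; push_cast; ring
  simpa [upT] using (gl_eq_one_iff.1 (D.pp _ h (by simp [this, upT_zero]))).2.1

theorem Dat.lo (D : Dat W R) (h : loT t ∈ W) : t = 0 := by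
  have : ∀ n : ℕ, loT t ^ n = loT (n * t) := fun n => by
    induction n with
    | zero => simp [loT_zero]
    | succ n ih => rw [pow_succ, ih, ← loT_add]; congr 1; push_cast; ring
  simpa [loT] using (gl_eq_one_iff.1 (D.pp _ h (by simp [this, loT_zero]))).2.2.1

/-- monomial matrices -/
def Mon (A : G2 p) : Prop := (A 0 1 = 0 ∧ A 1 0 = 0) ∨ (A 0 0 = 0 ∧ A 1 1 = 0)

/-- the invariant distinguishing `D₈` from `SD₁₆` -/
def Ty (W : Subgroup (G2 p)) : Prop := ∃ A ∈ W, A ^ 4 ≠ 1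

theorem ty_chg : Ty (cW W B) ↔ Ty W := by
  constructor
  · rintro ⟨A, h1, h2⟩
    exact ⟨_, mem_cW.1 h1, by rwa [conj_pow, Ne, conj_eq_one_iff]⟩
  · rintro ⟨A, h1, h2⟩
    refine ⟨B⁻¹ * A * B⁻¹⁻¹, by simpa [mem_cW, mul_assoc] using h1, ?_⟩
    rwa [conj_pow, Ne, conj_eq_one_iff]

end

variable {W W' : Subgroup (G2 3)} {R R' : Set (V 3)} {A B : G2 3} {v : V 3}

/-- no zero entry -/
def Full (A : G2 3) : Prop := A 0 0 ≠ 0 ∧ A 0 1 ≠ 0 ∧ A 1 0 ≠ 0 ∧ A 1 1 ≠ 0

/-- a reflection -/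
def d1 : G2 3 := gl2 2 0 0 1 (by decide)
/-- another reflection -/
def w3 : G2 3 := gl2 0 2 2 0 (by decide)

theorem inv2 : (2 : ZMod 3)⁻¹ = 2 := inv_eq_of_mul_eq_one_right (by decide)

theorem d1_mem (h : N1 W R 2) : d1 ∈ W := by
  convert h.2.1 using 1
  apply gl_ext <;> simp only [d1, dg, gl2_00, gl2_01, gl2_10, gl2_11, inv2]
  decide

theorem Dat.w3_mem (D : Dat W R) (h : N1 W R 2) : w3 ∈ W := by
  obtain ⟨A, a1, a2, a3⟩ := D.tor _ h.2.2.2 2 h.1
  have c0 := congrFun a2 0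
  have c1 := congrFun a2 1
  simp only [gl_smul_apply, Pi.smul_apply, smul_eq_mul, Matrix.cons_val_zero,
    Matrix.cons_val_one, mul_one, inv2] at c0 c1
  have b := mul_mem (d1_mem h) a1
  have : A = w3 ∨ d1 * A * (d1 * A) = upT 2 ∨ d1 * A = loT 1 := by
    simp only [gl_eq_iff, dt, gl_mul_apply, w3, d1, upT, loT, gl2_00, gl2_01, gl2_10, gl2_11] at a3 ⊢
    generalize A 0 0 = a, A 0 1 = b, A 1 0 = c, A 1 1 = d at *
    revert a b c d
    decide
  rcases this with e | e | e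
  · exact e ▸ a1
  · exact absurd (D.up (e ▸ mul_mem b b)) (by decide)
  · exact absurd (D.lo (e ▸ b)) (by decide)

theorem Dat.mon_mem (D : Dat W R) (h : N1 W R 2) (hA : Mon A) : A ∈ W := by
  have a1 := d1_mem h
  have a2 := D.w3_mem h
  have a3 := mul_mem (mul_mem a2 a1) a2
  have : A = 1 ∨ A = d1 ∨ A = w3 * d1 * w3 ∨ A = d1 * (w3 * d1 * w3) ∨ A = w3 ∨ A = w3 * d1 ∨
      A = d1 * w3 ∨ A = d1 * w3 * d1 := by
    have hd := gl_det_ne A
    simp only [gl_eq_one_iff, Mon] at hA ⊢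
    simp only [gl_eq_iff, gl_mul_apply, w3, d1, gl2_00, gl2_01, gl2_10, gl2_11]
    generalize A 0 0 = a, A 0 1 = b, A 1 0 = c, A 1 1 = d at *
    revert a b c d
    decide
  rcases this with e | e | e | e | e | e | e | e <;> rw [e]
  exacts [one_mem _, a1, a3, mul_mem a1 a3, a2, mul_mem a2 a1, mul_mem a1 a2,
    mul_mem (mul_mem a1 a2) a1]

theorem Dat.mon_or (D : Dat W R) (h : N1 W R 2) (hA : A ∈ W) : Mon A ∨ Full A := by
  have key : ∀ A ∈ W, (A 1 0 = 0 ↔ A 0 1 = 0) := fun A hA => by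
    have hd := gl_det_ne A
    constructor <;> intro h0
    · have h1 := mul_mem hA (D.mon_mem h (A := gl2 (A 0 0) 0 0 (A 1 1) (by simpa [h0] using hd))
        (.inl ⟨rfl, rfl⟩))
      have := D.up (t := A 0 1 * A 1 1) (by
        convert h1 using 1
        clear h1
        simp only [gl_eq_iff, gl_mul_apply, upT, gl2_00, gl2_01, gl2_10, gl2_11]
        generalize A 0 0 = a, A 0 1 = b, A 1 0 = c, A 1 1 = d at *
        revert a b c d
        decide)
      clear h1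
      generalize A 0 0 = a, A 0 1 = b, A 1 0 = c, A 1 1 = d at *
      revert a b c d
      decide
    · have h1 := mul_mem hA (D.mon_mem h (A := gl2 (A 0 0) 0 0 (A 1 1) (by simpa [h0] using hd))
        (.inl ⟨rfl, rfl⟩))
      have := D.lo (t := A 1 0 * A 0 0) (by
        convert h1 using 1
        clear h1
        simp only [gl_eq_iff, gl_mul_apply, loT, gl2_00, gl2_01, gl2_10, gl2_11]
        generalize A 0 0 = a, A 0 1 = b, A 1 0 = c, A 1 1 = d at *
        revert a b c d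
        decide)
      clear h1
      generalize A 0 0 = a, A 0 1 = b, A 1 0 = c, A 1 1 = d at *
      revert a b c d
      decide
  have a1 := key A hA
  have a2 := key _ (mul_mem (D.w3_mem h) hA)
  have hd := gl_det_ne A
  simp only [gl_mul_apply, w3, gl2_00, gl2_01, gl2_10, gl2_11, Mon, Full] at a2 ⊢
  generalize A 0 0 = a, A 0 1 = b, A 1 0 = c, A 1 1 = d at *
  revert a b c d
  decide

theorem full_mul (hA : Full A) (hB : Full B) : Mon (A * B) := by
  have hd := gl_det_ne A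
  have hd' := gl_det_ne B
  simp only [gl_mul_apply, Mon, Full] at *
  generalize A 0 0 = a, A 0 1 = b, A 1 0 = c, A 1 1 = d, B 0 0 = a', B 0 1 = b', B 1 0 = c',
    B 1 1 = d' at *
  revert a b c d a' b' c' d'
  decide +kernel

theorem mon_four (hA : Mon A) : A ^ 4 = 1 := by
  have hd := gl_det_ne A
  rw [show A ^ 4 = A * A * A * A by simp [pow_succ]]
  simp only [gl_eq_one_iff, gl_mul_apply, Mon] at *
  generalize A 0 0 = a, A 0 1 = b, A 1 0 = c, A 1 1 = d at *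
  revert a b c d
  decide

theorem full_four (hA : Full A) : A ^ 4 ≠ 1 ∨ (d1 * A) ^ 4 ≠ 1 := by
  have hd := gl_det_ne A
  have : ∀ A : G2 3, A ^ 4 = A * A * (A * A) := fun A => by simp [pow_succ, mul_assoc]
  simp only [this, Ne, gl_eq_one_iff, gl_mul_apply, Full, d1, gl2_00, gl2_01, gl2_10, gl2_11] at *
  generalize A 0 0 = a, A 0 1 = b, A 1 0 = c, A 1 1 = d at *
  revert a b c d
  decide

theorem Dat.R_all3 (D : Dat W R) (h : N1 W R 2) (hv : v ≠ 0) : v ∈ R := by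
  obtain ⟨-, -, e1, e3⟩ := id h
  have key : ∀ u ∈ R, om u v = 0 → v ∈ R := fun u hu a => by
    obtain ⟨t, rfl⟩ := exists_smul_of_om (D.ne _ hu) a
    exact D.smul _ hu _ (left_ne_zero_of_smul hv)
  have f1 := key _ e1
  have f2 := key _ (D.act _ (D.w3_mem h) _ e1)
  have f3 := key _ e3
  have f4 := key _ (D.act _ (d1_mem h) _ e3)
  simp only [om, gl_smul_apply, w3, d1, gl2_00, gl2_01, gl2_10, gl2_11, Matrix.cons_val_zero,
    Matrix.cons_val_one] at f1 f2 f3 f4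
  by_contra a
  simp only [a, imp_false] at f1 f2 f3 f4
  generalize v 0 = x, v 1 = y at *
  revert x y
  decide

theorem Dat.cmp3 (D : Dat W R) (D' : Dat W' R') (h : N1 W R 2) (h' : N1 W' R' 2)
    (ht : Ty W → Ty W') : W ≤ W' ∧ R ⊆ R' := by
  refine ⟨fun A hA => ?_, fun v hv => D'.R_all3 h' (D.ne _ hv)⟩
  rcases D.mon_or h hA with a | a
  · exact D'.mon_mem h' a
  obtain ⟨B, b1, b2⟩ := ht ((full_four a).elim (fun b => ⟨_, hA, b⟩)
    fun b => ⟨_, mul_mem (d1_mem h) hA, b⟩)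
  have b3 := (D'.mon_or h' b1).resolve_left fun b => b2 (mon_four b)
  simpa using mul_mem (D'.mon_mem h' (full_mul a b3)) (inv_mem b1)

theorem gl3_aux : ∀ a b c d : ZMod 3, a * d - b * c ≠ 0 → !![a, b; c, d] ^ 4 ≠ 1 →
    ((!![a, b; c, d] ^ 2) ^ 3 = 1 ∧ !![a, b; c, d] ^ 2 ≠ 1) ∨ ∀ x y : ZMod 3, ¬ (x = 0 ∧ y = 0) →
      ∃ k : Fin 8, (!![a, b; c, d] ^ k.val) 0 0 = x ∧ (!![a, b; c, d] ^ k.val) 1 0 = y := by
  decide +kernel

theorem Dat.ty_trans (D : Dat W R) (ht : Ty W) (hv : v ≠ 0) : ∃ A ∈ W, A • ![1, 0] = v := by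
  obtain ⟨A, h1, h2⟩ := ht
  have := gl3_aux _ _ _ _ (gl_det_ne A)
  rw [← Matrix.eta_fin_two A.val] at this
  rcases this (fun a => h2 (Units.ext (by simpa using a))) with ⟨a, b⟩ | a
  · exact (b (by simpa using (congrArg Units.val (D.pp _ (pow_mem h1 2)
      (Units.ext (by simpa using a)))))).elim
  · obtain ⟨k, b1, b2⟩ := a (v 0) (v 1) fun b => hv (vext b.1 b.2)
    exact ⟨_, pow_mem h1 k, vext (by simpa [gl_smul_apply] using b1)
      (by simpa [gl_smul_apply] using b2)⟩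

end H15.RV
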