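import Cfsg.Agent.H15.RV.E

/-! Construction of frames; realization of systems with three radical points by model groups. -/

set_option autoImplicit false
set_option linter.unusedSectionVars false

namespace H15.RV
open Subgroup H25 H25.FS H27 H4

variable {p : ℕ} [hp : Fact p.Prime] {Γ G : Type*} [Group Γ] [Group G]

section
variable {x y z : Γ} {a b : ZMod p}

theorem pw_add (hx : x ^ p = 1) (a b : ZMod p) : x ^ (a + b).val = x ^ a.val * x ^ b.val := by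
  rw [ZMod.val_add, ← pow_eq_pow_mod _ hx, pow_add]

theorem pw_mul (hx : x ^ p = 1) (a b : ZMod p) : x ^ (a * b).val = x ^ (a.val * b.val) := by
  rw [ZMod.val_mul, ← pow_eq_pow_mod _ hx]

theorem pw_inj (hx : x ^ p = 1) (h1 : x ≠ 1) (h : x ^ a.val = x ^ b.val) : a = b := by
  rw [pow_eq_pow_iff_modEq, orderOf_eq_prime hx h1] at h
  exact ZMod.val_injective p (Nat.ModEq.eq_of_lt_of_lt h (ZMod.val_lt a) (ZMod.val_lt b))

theorem heis_pow (h : x * y = z * y * x) (h1 : Commute x z) (h2 : Commute y z) (m n : ℕ) :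
    x ^ m * y ^ n = z ^ (m * n) * y ^ n * x ^ m := by
  have k : ∀ n : ℕ, x * y ^ n = z ^ n * y ^ n * x := fun n => by
    induction n with
    | zero => simp
    | succ n ih =>
      rw [pow_succ, ← mul_assoc, ih, mul_assoc, h, pow_succ]
      simp only [← mul_assoc]
      rw [mul_assoc (z ^ n), (h2.pow_left n).eq, ← mul_assoc]
  induction m with
  | zero => simp
  | succ m ih =>
    rw [pow_succ', mul_assoc, ih, ← mul_assoc, ← mul_assoc, (h1.pow_right _).eq, mul_assoc _ x, k,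
      add_mul, one_mul, pow_add]
    simp only [mul_assoc]

theorem exists_fr (h2 : (2 : ZMod p) ≠ 0) (hx : x ^ p = 1) (hy : y ^ p = 1) (hz : z ^ p = 1)
    (z1 : z ≠ 1) (h : x * y = z * y * x) (xz : Commute x z) (yz : Commute y z) :
    ∃ (S : Subgroup Γ) (e : V p → ZMod p → Γ), Fr S e ∧ e ![1, 0] 0 = x ∧ e ![0, 1] 0 = y ∧
      e 0 2 = z := by
  let e : V p → ZMod p → Γ := fun v c =>
    x ^ (v 0).val * y ^ (v 1).val * z ^ ((c - v 0 * v 1) / 2).val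
  have mul : ∀ v c w d, e v c * e w d = e (v + w) (c + d + om v w) := fun v c w d => by
    have a1 : (c - v 0 * v 1) / 2 + (d - w 0 * w 1) / 2 =
        w 0 * v 1 + (c + d + om v w - (v + w) 0 * (v + w) 1) / 2 := by
      simp only [om, Pi.add_apply]; grind
    have c1 : ∀ n k : ℕ, ∀ u, z ^ n * (x ^ k * u) = x ^ k * (z ^ n * u) := fun n k u => by
      rw [← mul_assoc, ← (xz.pow_pow k n).eq, mul_assoc]
    have c2 : ∀ n k : ℕ, ∀ u, z ^ n * (y ^ k * u) = y ^ k * (z ^ n * u) := fun n k u => by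
      rw [← mul_assoc, ← (yz.pow_pow k n).eq, mul_assoc]
    have c3 := heis_pow h xz yz (w 0).val (v 1).val
    simp only [e, Pi.add_apply, pw_add hx, pw_add hy, mul_assoc, c1, c2, mul_right_inj]
    rw [← pw_add hz, a1, pw_add hz, pw_mul hz, ← mul_assoc (x ^ _) (y ^ (v 1).val), c3]
    simp only [mul_assoc, c1, c2, Pi.add_apply]
  have zero : e 0 0 = 1 := by simp [e]
  refine ⟨{ carrier := {s | ∃ v c, e v c = s}
            one_mem' := ⟨0, 0, zero⟩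
            mul_mem' := ?_
            inv_mem' := ?_ }, e, ⟨h2, mul, fun v c a => ?_, fun _ => Iff.rfl⟩, ?_, ?_, ?_⟩
  · rintro _ _ ⟨v, c, rfl⟩ ⟨w, d, rfl⟩
    exact ⟨_, _, (mul ..).symm⟩
  · rintro _ ⟨v, c, rfl⟩
    refine ⟨-v, -c, eq_inv_of_mul_eq_one_left ?_⟩
    rw [mul, ← zero]
    congr 1
    · simp
    · simp [om, mul_comm]
  · have key : ∀ w, om v w = 0 := fun w => by
      have a1 : e v c * e w 0 = e w 0 * e v c := by rw [a, one_mul, mul_one]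
      rw [mul, mul, add_comm w v] at a1
      have a2 := pw_inj hz z1 (mul_left_cancel a1)
      simp only [om] at a2 ⊢
      grind
    obtain rfl : v = 0 := vext (by simpa [om] using key ![0, 1]) (by simpa [om] using key ![1, 0])
    refine ⟨rfl, ?_⟩
    have := pw_inj (a := (c - 0 * 0) / 2) (b := 0) hz z1 (by simpa [e] using a)
    grind
  · simp [e, ZMod.val_one]
  · simp [e, ZMod.val_one]
  · simp [e, h2, ZMod.val_one]

end

theorem exists_fr_es [Finite G] (hp2 : p ≠ 2) (hE : Cfsg.IsExtraspecial p G)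
    (hc : Nat.card G = p ^ 3) (he : Monoid.exponent G = p) :
    ∃ e : V p → ZMod p → G, Fr ⊤ e := by
  have h2 : (2 : ZMod p) ≠ 0 := fun a => hp2 ((Nat.prime_dvd_prime_iff_eq hp.out Nat.prime_two).1
    ((ZMod.natCast_eq_zero_iff 2 p).1 (by simpa using a)))
  have pw : ∀ g : G, g ^ p = 1 := fun g => he ▸ Monoid.pow_exponent_eq_one g
  have : ∃ x y : G, x * y * x⁻¹ * y⁻¹ ≠ 1 := by
    by_contra! a
    have : commutator G = ⊥ := eq_bot_iff.2 (commutator_le.2 fun x _ y _ => a x y)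
    have h3 := hE.2
    rw [← hE.1.2.2, this, card_bot] at h3
    exact hp.out.one_lt.ne h3
  obtain ⟨x, y, h⟩ := this
  have hz : x * y * x⁻¹ * y⁻¹ ∈ center G := hE.1.2.2 ▸ commutator_mem_commutator (mem_top x) (mem_top y)
  obtain ⟨S, e, h1, -⟩ := exists_fr h2 (pw x) (pw y) (pw _) h (by group) (mem_center_iff.1 hz x)
    (mem_center_iff.1 hz y)
  exact ⟨e, eq_top_of_card_eq S (h1.card.trans hc.symm) ▸ h1⟩

variable {S : Subgroup Γ} {S₀ : Subgroup G} {e : V p → ZMod p → Γ} {e₀ : V p → ZMod p → G}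
  {F : FS Γ}

theorem un_fr (hU : Un S G) (h : Fr S e) (h₀ : Fr S₀ e₀) :
    ∃ i : G →* Γ, Function.Injective i ∧ ∀ v c, i (e₀ v c) = e v c := by
  let D : Subgroup (Γ × G) :=
    { carrier := {s | ∃ v c, (e v c, e₀ v c) = s}
      one_mem' := ⟨0, 0, Prod.ext h.zero h₀.zero⟩
      mul_mem' := by
        rintro _ _ ⟨v, c, rfl⟩ ⟨w, d, rfl⟩
        exact ⟨_, _, Prod.ext (h.mul ..).symm (h₀.mul ..).symm⟩
      inv_mem' := by
        rintro _ ⟨v, c, rfl⟩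
        exact ⟨_, _, Prod.ext (h.inv ..).symm (h₀.inv ..).symm⟩ }
  obtain ⟨i, a1, a2⟩ := hU.graph D (by
    rintro b ⟨v, c, a⟩
    obtain ⟨rfl, rfl⟩ := h.inj _ _ (congrArg Prod.fst a)
    exact (congrArg Prod.snd a).symm.trans h₀.zero) (by
    rintro b ⟨v, c, a⟩
    obtain ⟨rfl, rfl⟩ := h₀.inj _ _ (congrArg Prod.snd a)
    exact (congrArg Prod.fst a).symm.trans h.zero) fun s hs => by
    obtain ⟨v, c, rfl⟩ := (h.mem _).1 hs
    exact ⟨_, v, c, rfl⟩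
  exact ⟨i, a1, fun v c => a2 _ (h.mem' v c) _ ⟨v, c, rfl⟩⟩

theorem act_map {i : G →* Γ} (hi : Function.Injective i) (a : ∀ v c, i (e₀ v c) = e v c) {g : G}
    {A : G2 p} : Act e (i g) A ↔ Act e₀ g A :=
  forall_congr' fun v => forall_congr' fun c => exists_congr fun d => by
    rw [← a, ← a, ← map_inv, ← map_mul, ← map_mul, hi.eq_iff]

/-- `F` is the fusion system of a subgroup of the ambient group -/
def RzS (p : ℕ) (F : FS Γ) : Prop := ∃ H : Subgroup Γ, Syl p F.S H ∧ F = ofSub H F.S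

theorem RzS.rz (h : RzS p F) : ∃ H : Subgroup Γ, Rz p F H := by
  obtain ⟨H, h1, h2⟩ := h
  exact ⟨H, H.subtype, subtype_injective H, by rwa [range_subtype], by rwa [range_subtype]⟩

/-- the radical directions of a group -/
def Rg (e : V p → ZMod p → G) : Set (V p) := {v | v ≠ 0 ∧ ∃ g d, g * e v 0 * g⁻¹ = e 0 d}

/-- a model group with three radical points -/
def Md (p : ℕ) [Fact p.Prime] (G : Type*) [Group G] (t : Prop) : Prop :=
  ∃ (S : Subgroup G) (e : V p → ZMod p → G), Fr S e ∧ ¬ p ^ 4 ∣ Nat.card G ∧ T3 (Rg e) ∧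
    (p = 3 → ((∃ g A, Act e g A ∧ A ^ 4 ≠ 1) ↔ t))

theorem R_top (h : Fr S₀ e₀) : R (ofSub ⊤ S₀) e₀ = Rg e₀ := by
  ext v
  rw [mem_R_ofSub le_top h]
  simp [Rg]

theorem Fr.mem_Rg (h : Fr S₀ e₀) {v : V p} {c d : ZMod p} {g : G} (hv : v ≠ 0)
    (a : g * e₀ v c * g⁻¹ = e₀ 0 d) : v ∈ Rg e₀ := by
  obtain ⟨w, hw⟩ := exists_om h.two hv c
  refine ⟨hv, g * e₀ w 0, d, ?_⟩
  rw [← a, show e₀ v c = e₀ w 0 * e₀ v 0 * (e₀ w 0)⁻¹ by rw [h.conj, hw, zero_add]]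
  group

theorem two_gen5 : (2 : ZMod 5) ^ 6 = -1 ∧ (2 : ZMod 5) ^ 3 ≠ 1 ∧
    ∀ a : ZMod 5, a ≠ 0 → ∃ n : Fin 4, (2 : ZMod 5) ^ n.val = a := by decide

theorem two_gen13 : (2 : ZMod 13) ^ 6 = -1 ∧ (2 : ZMod 13) ^ 3 ≠ 1 ∧
    ∀ a : ZMod 13, a ≠ 0 → ∃ n : Fin 12, (2 : ZMod 13) ^ n.val = a := by decide

theorem two_gen3 : (2 : ZMod 3) ^ 3 ≠ 1 := by decide

theorem two_gen (h : p = 5 ∨ p = 13) : (2 : ZMod p) ^ 6 = -1 ∧
    ∀ a : ZMod p, a ≠ 0 → ∃ n : ℕ, (2 : ZMod p) ^ n = a := by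
  rcases h with rfl | rfl
  · exact ⟨two_gen5.1, fun a ha => let ⟨n, h⟩ := two_gen5.2.2 a ha; ⟨n, h⟩⟩
  · exact ⟨two_gen13.1, fun a ha => let ⟨n, h⟩ := two_gen13.2.2 a ha; ⟨n, h⟩⟩

theorem cmp_all {W W' : Subgroup (G2 p)} {R R' : Set (V p)} (hq : p = 3 ∨ p = 5 ∨ p = 13)
    (D : Dat W R) (D' : Dat W' R') (h : N1 W R 2) (h' : N1 W' R' 2) (ht : p = 3 → Ty W → Ty W') :
    W ≤ W' ∧ R ⊆ R' := by
  rcases hq with rfl | hq
  · exact D.cmp3 D' h h' (ht rfl)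
  · exact D.cmp D' h h' (two_gen hq).1 (two_gen hq).2

theorem rz3 [Finite Γ] [Finite G] (hq : p = 3 ∨ p = 5 ∨ p = 13) (hF : F.Sat p) (h : Fr F.S e)
    (h3 : T3 (R F e)) (hU : Un F.S G) (hm : Md p G (Ty (W F h))) : RzS p F := by
  obtain ⟨S₀, e₀, h₁, a1, a2, a3⟩ := hm
  have h₀ : Fr (ofSub ⊤ S₀).S e₀ := h₁
  have l3 : (2 : ZMod p) ^ 3 ≠ 1 := by
    rcases hq with rfl | rfl | rfl
    exacts [two_gen3, two_gen5.2.1, two_gen13.2.1]
  have hE₀ : (ofSub ⊤ S₀).Sat p := sat_ofSub h₁.pg (h₁.syl le_top (by rwa [card_top]))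
  have D := dat hF h
  have D₀ := dat hE₀ h₀
  obtain ⟨B, hB⟩ := norm1 D h3 h.two l3
  obtain ⟨B₀, hB₀⟩ := norm1 D₀ (R_top h₁ ▸ a2) h.two l3
  obtain ⟨i, hi, a⟩ := un_fr hU (h.chg B) (h₀.chg B₀)
  have b1 : F.S ≤ i.range := fun s hs => by
    obtain ⟨v, c, rfl⟩ := ((h.chg B).mem _).1 hs
    exact ⟨_, a v c⟩
  have b2 : Syl p F.S i.range := h.syl b1 (by
    rwa [← Nat.card_congr (MonoidHom.ofInjective hi).toEquiv])
  have hE := sat_ofSub h.pg b2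
  have h' : Fr (ofSub i.range F.S).S (chg e B) := h.chg B
  have c1 : W (ofSub i.range F.S) h' = cW (W (ofSub ⊤ S₀) h₀) B₀ := by
    ext A
    rw [← W_chg, mem_W_ofSub b1, mem_W_ofSub le_top]
    constructor
    · rintro ⟨_, ⟨g, rfl⟩, b⟩
      exact ⟨g, mem_top g, (act_map hi a).1 b⟩
    · rintro ⟨g, -, b⟩
      exact ⟨_, ⟨g, rfl⟩, (act_map hi a).2 b⟩
  have c2 : R (ofSub i.range F.S) (chg e B) = cR (R (ofSub ⊤ S₀) e₀) B₀ := by
    ext v
    rw [← R_chg, mem_R_ofSub b1 (h.chg B), mem_R_ofSub le_top (h₁.chg B₀)]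
    refine and_congr_right fun _ => ⟨?_, ?_⟩
    · rintro ⟨_, ⟨g, rfl⟩, d, b⟩
      exact ⟨g, mem_top g, d, hi (by simpa [a] using b)⟩
    · rintro ⟨g, -, d, b⟩
      exact ⟨_, ⟨g, rfl⟩, d, by simpa [a] using congrArg i b⟩
  have ht : p = 3 → (Ty (cW (W F h) B) ↔ Ty (cW (W (ofSub ⊤ S₀) h₀) B₀)) := fun q => by
    rw [ty_chg, ty_chg, ← a3 q]
    constructor
    · rintro ⟨g, A, b1, b2⟩
      exact ⟨A, (mem_W_ofSub le_top h₀).2 ⟨g, mem_top g, b1⟩, b2⟩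
    · rintro ⟨A, b1, b2⟩
      obtain ⟨g, -, b3⟩ := (mem_W_ofSub le_top h₀).1 b1
      exact ⟨g, A, b3, b2⟩
  have d1 := cmp_all hq (D.chg B) (D₀.chg B₀) hB hB₀ fun q => (ht q).1
  have d2 := cmp_all hq (D₀.chg B₀) (D.chg B) hB₀ hB fun q => (ht q).2
  refine ⟨_, b2, eq_of hF hE (h.chg B) h' ?_ ?_⟩
  · rw [c1, W_chg h]; exact le_antisymm d1.1 d2.1
  · rw [c2, R_chg]; exact Set.Subset.antisymm d1.2 d2.2

end H15.RV
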