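import Cfsg.Agent.H15.RV.F

/-! The groups between `SL₃(p)` and `GL₃(p) ⋊ 2` realize the systems with two radical points. -/

set_option autoImplicit false
set_option linter.unusedSectionVars false

namespace H15.RV
open Subgroup H25 H25.FS H27 H4 Matrix SemidirectProduct

variable {p : ℕ} [hp : Fact p.Prime]

abbrev M3 (p : ℕ) : Type := Matrix (Fin 3) (Fin 3) (ZMod p)
abbrev G3 (p : ℕ) : Type := GL (Fin 3) (ZMod p)

/-- reflection in the antidiagonal -/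
def sg (M : M3 p) : M3 p := Matrix.of fun i j => M j.rev i.rev

theorem sg_mul (M N : M3 p) : sg (M * N) = sg N * sg M := by
  ext i j
  simp only [sg, Matrix.mul_apply, Fin.sum_univ_three, of_apply]
  change _ = N 2 i.rev * M j.rev 2 + N 1 i.rev * M j.rev 1 + N 0 i.rev * M j.rev 0
  ring

theorem sg_one : sg (1 : M3 p) = 1 := by
  ext i j
  fin_cases i <;> fin_cases j <;> rfl

theorem sg_sg (M : M3 p) : sg (sg M) = M := by
  ext i j
  simp [sg]

theorem det_sg (M : M3 p) : (sg M).det = M.det := by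
  simp only [det_fin_three]
  change M 2 2 * M 1 1 * M 0 0 - M 2 2 * M 0 1 * M 1 0 - M 1 2 * M 2 1 * M 0 0 +
    M 1 2 * M 0 1 * M 2 0 + M 0 2 * M 2 1 * M 1 0 - M 0 2 * M 1 1 * M 2 0 = _
  ring

/-- the graph map -/
def ta (g : G3 p) : G3 p :=
  ⟨sg g.inv, sg g.val, by rw [← sg_mul, g.val_inv, sg_one], by rw [← sg_mul, g.inv_val, sg_one]⟩

theorem ta_ta (g : G3 p) : ta (ta g) = g := Units.ext (sg_sg _)

/-- the graph automorphism -/
def tau (p : ℕ) [Fact p.Prime] : MulAut (G3 p) where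
  toFun := ta
  invFun := ta
  left_inv := ta_ta
  right_inv := ta_ta
  map_mul' _ _ := Units.ext (sg_mul _ _)

theorem tau_sq : tau p ^ 2 = 1 := by
  ext g : 1
  exact ta_ta g

/-- `GL₃(p) ⋊ 2` -/
abbrev Gh (p : ℕ) [Fact p.Prime] : Type := G3 p ⋊[(zpowers (tau p)).subtype] zpowers (tau p)

instance instFiniteGh : Finite (Gh p) := Finite.of_equiv _ equivProd.symm

/-- the graph automorphism as an element -/
def tt (p : ℕ) [Fact p.Prime] : Gh p := inr ⟨tau p, mem_zpowers _⟩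

theorem tt_conj (g : G3 p) : tt p * inl g * (tt p)⁻¹ = inl (ta g) := by
  rw [tt, ← map_inv, ← inl_aut]; rfl

theorem gh_cases (x : Gh p) : ∃ g, x = inl g ∨ x = inl g * tt p := by
  obtain ⟨g, y, hy⟩ := x
  refine ⟨g, ?_⟩
  rw [mk_eq_inl_mul_inr]
  rcases (H4.mem_zpowers_of_sq tau_sq).1 hy with rfl | rfl
  · exact .inl (by rw [show (⟨1, hy⟩ : zpowers (tau p)) = 1 from rfl, map_one, mul_one])
  · exact .inr rfl

theorem card_gh (h2 : p ≠ 2) : ¬ p ^ 4 ∣ Nat.card (Gh p) := by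
  have pp := hp.out
  have k : ∀ n, n ≠ 0 → ¬ p ∣ p ^ n - 1 := fun n hn a => pp.one_lt.ne' (Nat.dvd_one.1
    ((Nat.dvd_sub_iff_right (Nat.one_le_pow _ _ pp.pos) (dvd_pow_self p hn)).1 a))
  rw [SemidirectProduct.card, card_GL_field, Fin.prod_univ_three, ZMod.card, Nat.card_zpowers]
  intro a
  have b : p ^ 3 * p ∣ p ^ 3 * ((p ^ 3 - 1) * (p ^ 2 - 1) * (p ^ 1 - 1) * orderOf (tau p)) := by
    have e1 : p ^ 3 - p ^ 1 = p * (p ^ 2 - 1) := by rw [Nat.mul_sub]; congr 1 <;> ring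
    have e2 : p ^ 3 - p ^ 2 = p ^ 2 * (p ^ 1 - 1) := by rw [Nat.mul_sub]; congr 1 <;> ring
    simp only [Fin.val_zero, Fin.val_one, Fin.val_two, pow_zero, e1, e2] at a
    exact (pow_succ p 3 ▸ a).trans (dvd_of_eq (by ring))
  have c := Nat.dvd_of_mul_dvd_mul_left (pow_pos pp.pos 3) b
  simp only [pp.dvd_mul, k, ne_eq, OfNat.ofNat_ne_zero, one_ne_zero, not_false_eq_true,
    false_or] at c
  exact h2 ((Nat.prime_dvd_prime_iff_eq pp Nat.prime_two).1
    (c.trans (orderOf_dvd_of_pow_eq_one tau_sq)))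

theorem ent {g k : G3 p} (h : g = k) (i j : Fin 3) : g.val i j = k.val i j := by rw [h]

/-- unitriangular matrices -/
def u3 (a b f : ZMod p) : G3 p :=
  ⟨!![1, a, f; 0, 1, b; 0, 0, 1], !![1, -a, a * b - f; 0, 1, -b; 0, 0, 1],
    by ext i j; fin_cases i <;> fin_cases j <;> simp [Matrix.mul_apply, Fin.sum_univ_three] <;> ring,
    by ext i j; fin_cases i <;> fin_cases j <;> simp [Matrix.mul_apply, Fin.sum_univ_three] <;> ring⟩

theorem u3_mul (a b f a' b' f' : ZMod p) :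
    u3 a b f * u3 a' b' f' = u3 (a + a') (b + b') (f + f' + a * b') := by
  ext i j
  fin_cases i <;> fin_cases j <;> simp [u3, Matrix.mul_apply, Fin.sum_univ_three] <;> ring

theorem ta_u3 (a b f : ZMod p) : ta (u3 a b f) = u3 (-b) (-a) (a * b - f) := by
  ext i j
  fin_cases i <;> fin_cases j <;> rfl

/-- the standard frame -/
def e3 (v : V p) (c : ZMod p) : G3 p := u3 (v 0) (v 1) ((c + v 0 * v 1) / 2)

/-- the standard frame in the semidirect product -/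
def eh (v : V p) (c : ZMod p) : Gh p := inl (e3 v c)

theorem fr_eh (h2 : (2 : ZMod p) ≠ 0) : ∃ S : Subgroup (Gh p), Fr S eh := by
  have mul : ∀ (v : V p) c w d, e3 v c * e3 w d = e3 (v + w) (c + d + om v w) := fun v c w d => by
    rw [e3, e3, e3, u3_mul]
    congr 1
    simp only [om, Pi.add_apply]; grind
  have zero : e3 (0 : V p) 0 = 1 := by
    ext i j
    fin_cases i <;> fin_cases j <;> simp [e3, u3]
  let S : Subgroup (G3 p) :=
    { carrier := {s | ∃ v c, e3 v c = s}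
      one_mem' := ⟨0, 0, zero⟩
      mul_mem' := by
        rintro _ _ ⟨v, c, rfl⟩ ⟨w, d, rfl⟩
        exact ⟨_, _, (mul ..).symm⟩
      inv_mem' := by
        rintro _ ⟨v, c, rfl⟩
        refine ⟨-v, -c, eq_inv_of_mul_eq_one_left ?_⟩
        rw [mul, ← zero]
        congr 1
        · simp
        · simp [om, mul_comm] }
  refine ⟨_, Fr.map (S := S) ⟨h2, mul, fun v c a => ?_, fun _ => Iff.rfl⟩ inl_injective⟩
  have a1 := ent a 0 1
  have a2 := ent a 1 2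
  have a3 := ent a 0 2
  simp [e3, u3] at a1 a2 a3
  exact ⟨vext a1 a2, by simpa [a1, h2] using a3⟩

/-- diagonal matrices -/
def d3 (a b : ZMod p) (ha : a ≠ 0) (hb : b ≠ 0) : G3 p :=
  GeneralLinearGroup.mkOfDetNeZero !![a * b, 0, 0; 0, b, 0; 0, 0, 1] (by simp [det_fin_three, ha, hb])

theorem act_d3 {S : Subgroup (Gh p)} (h : Fr S eh) {a b : ZMod p} (ha : a ≠ 0) (hb : b ≠ 0) :
    Act eh (inl (d3 a b ha hb)) (dg a b ha hb) := by
  refine h.act_of_gen ⟨0, ?_⟩ ⟨0, ?_⟩ <;> rw [mul_inv_eq_iff_eq_mul, eh, eh, ← map_mul, ← map_mul] <;>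
    congr 1 <;> ext i j <;> fin_cases i <;> fin_cases j <;>
    simp [d3, e3, u3, dg, gl_smul_apply, Matrix.mul_apply, Fin.sum_univ_three]

/-- the swap -/
def sw (p : ℕ) [Fact p.Prime] : G2 p := gl2 0 (-1) (-1) 0 (by simp)

theorem tt_eh (h2 : (2 : ZMod p) ≠ 0) (v : V p) (c : ZMod p) :
    tt p * eh v c * (tt p)⁻¹ = eh (sw p • v) (-c) := by
  rw [eh, tt_conj, e3, ta_u3, eh, e3]
  simp only [sw, gl_smul_apply, gl2_00, gl2_01, gl2_10, gl2_11]
  congr 2 <;> grind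

theorem act_cube {S : Subgroup (Gh p)} (h : Fr S eh) {g : G3 p} {A : G2 p} {δ : ZMod p}
    (a : Act eh (inl g) A) (hd : g.val.det = δ ^ 3) :
    A 0 1 = 0 ∧ A 1 0 = 0 ∧ ∃ γ, A 1 1 = A 0 0 * γ ^ 3 := by
  have z := h.act_z a 2
  obtain ⟨c1, x⟩ := a ![1, 0] 0
  obtain ⟨c2, y⟩ := a ![0, 1] 0
  rw [mul_inv_eq_iff_eq_mul, eh, eh, ← map_mul, ← map_mul, inl_inj] at x y z
  have := h.two
  have hδ : δ ≠ 0 := fun b => g.det_ne_zero (by rw [hd, b]; simp)
  have z1 := ent z 1 2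
  have z2 := ent z 2 2
  have z3 := ent z 0 1
  have x1 := ent x 0 1
  have x2 := ent x 1 2
  have y1 := ent y 0 1
  have y2 := ent y 1 2
  simp [e3, u3, Matrix.mul_apply, Fin.sum_univ_three, gl_smul_apply, this, dt_ne] at z1 z2 z3 x1 x2 y1 y2
  rw [det_fin_three, z1, z2, z3] at hd
  rw [z3] at x1 y1
  have n1 : g.val 1 1 ≠ 0 := by grind
  have n2 : g.val 2 2 ≠ 0 := by grind
  refine ⟨by grind, by grind, g.val 1 1 / δ, ?_⟩
  grind

theorem rg_upper (h2 : (2 : ZMod p) ≠ 0) {x : Gh p} {v : V p} {d : ZMod p}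
    (a : x * eh v 0 * x⁻¹ = eh 0 d) : v 0 * v 1 = 0 := by
  have key : ∀ (g : G3 p) d, inl g * eh 0 d * (inl g)⁻¹ = eh v 0 → v 0 * v 1 = 0 := fun g d a => by
    rw [eh, eh, ← map_inv, ← map_mul, ← map_mul, inl_inj] at a
    have b : (e3 (0 : V p) d).val * (e3 (0 : V p) d).val + 1 =
        (e3 (0 : V p) d).val + (e3 (0 : V p) d).val := by
      ext i j
      fin_cases i <;> fin_cases j <;> simp [e3, u3, Matrix.mul_apply, Fin.sum_univ_three]
    have c : (e3 v 0).val * (e3 v 0).val + 1 = (e3 v 0).val + (e3 v 0).val := by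
      rw [← a, ← Units.val_mul, conj_mul]
      simp only [Units.val_mul]
      rw [← add_mul, ← mul_add, ← b, mul_add, add_mul, mul_one, Units.mul_inv]
    have := congrFun (congrFun c 0) 2
    simp [e3, u3, Matrix.mul_apply, Fin.sum_univ_three] at this
    simpa using this
  obtain ⟨g, b | b⟩ := gh_cases x⁻¹
  · exact key g d (by rw [← b, ← a]; group)
  · refine key g (-d) ?_
    have := tt_eh h2 0 d
    rw [smul_zero] at this
    rw [← this, ← a, ← mul_inv_eq_iff_eq_mul.2 b]; group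

/-- the elements with cubic determinant -/
def Kh (p : ℕ) [Fact p.Prime] : Subgroup (Gh p) where
  carrier := {x | ∃ (g : G3 p) (δ : ZMod p), g.val.det = δ ^ 3 ∧ inl g = x}
  one_mem' := ⟨1, 1, by simp, map_one _⟩
  mul_mem' := by
    rintro _ _ ⟨g, δ, a, rfl⟩ ⟨k, ε, b, rfl⟩
    exact ⟨g * k, δ * ε, by rw [Units.val_mul, det_mul, a, b, mul_pow], map_mul ..⟩
  inv_mem' := by
    rintro _ ⟨g, δ, a, rfl⟩
    exact ⟨g⁻¹, δ⁻¹, by rw [inv_pow, ← a]; simp, map_inv ..⟩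

instance instNormalKh : (Kh p).Normal := ⟨by
  have k1 : ∀ x ∈ Kh p, ∀ g : G3 p, inl g * x * (inl g)⁻¹ ∈ Kh p := by
    rintro _ ⟨k, δ, a, rfl⟩ g
    refine ⟨g * k * g⁻¹, δ, ?_, by simp⟩
    rw [← a, Units.val_mul, Units.val_mul, det_units_conj]
  intro x hx y
  obtain ⟨g, rfl | rfl⟩ := gh_cases y
  · exact k1 x hx g
  · obtain ⟨k, δ, a, rfl⟩ := hx
    have := k1 (inl (ta k)) ⟨_, δ⁻¹, by
      rw [inv_pow, ← a]
      exact (det_sg _).trans (by simp), rfl⟩ g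
    rw [← tt_conj] at this
    simpa [mul_assoc] using this⟩

theorem rg_lower (h2 : (2 : ZMod p) ≠ 0) : (∃ g ∈ Kh p, g * eh ![1, 0] 0 * g⁻¹ = eh 0 2) ∧
    ∃ g ∈ Kh p, g * eh ![0, 1] 0 * g⁻¹ = eh 0 2 := by
  refine ⟨⟨_, ⟨GeneralLinearGroup.mkOfDetNeZero !![1, 0, 0; 0, 0, 1; 0, 1, 0]
    (by simp [det_fin_three]), -1, by simp [det_fin_three]; ring, rfl⟩, ?_⟩,
    ⟨_, ⟨GeneralLinearGroup.mkOfDetNeZero !![0, 1, 0; 1, 0, 0; 0, 0, 1]
    (by simp [det_fin_three]), -1, by simp [det_fin_three]; ring, rfl⟩, ?_⟩⟩ <;>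
  rw [mul_inv_eq_iff_eq_mul, eh, eh, ← map_mul, ← map_mul] <;>
    congr 1 <;> ext i j <;> fin_cases i <;> fin_cases j <;>
    simp [e3, u3, Matrix.mul_apply, Fin.sum_univ_three, h2]

variable {W : Subgroup (G2 p)} {R : Set (V p)} {A : G2 p}

theorem Dat.mon (D : Dat W R) (h1 : ![1, 0] ∈ R) (h2 : ![0, 1] ∈ R)
    (h3 : ∀ v ∈ R, v 0 * v 1 = 0) (hA : A ∈ W) : Mon A := by
  have a1 := h3 _ (D.act _ hA _ h1)
  have a2 := h3 _ (D.act _ hA _ h2)
  have a3 := gl_det_ne A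
  simp only [gl_smul_apply, cons_val_zero, cons_val_one, mul_one, mul_zero, add_zero, zero_add,
    mul_eq_zero] at a1 a2
  unfold Mon
  grind

theorem Dat.t0 (D : Dat W R) (h1 : ![1, 0] ∈ R) (h2 : ![0, 1] ∈ R)
    (h3 : ∀ v ∈ R, v 0 * v 1 = 0) {γ : ZMod p} (a1 : A 0 1 = 0) (a2 : A 1 0 = 0)
    (a3 : A 1 1 = A 0 0 * γ ^ 3) : A ∈ W := by
  have a4 := gl_det_ne A
  have n1 : A 0 0 ≠ 0 := by grind
  have n2 : γ ≠ 0 := by grind
  obtain ⟨B, b1, b2, b3⟩ := D.tor _ h1 (A 0 0 * γ ^ 2) (by simp [n1, n2])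
  obtain ⟨C, c1, c2, c3⟩ := D.tor _ h2 (A 0 0 * γ) (by simp [n1, n2])
  have b4 := D.mon h1 h2 h3 b1
  have c4 := D.mon h1 h2 h3 c1
  have b5 := congrFun b2 0
  have c5 := congrFun c2 1
  simp only [gl_smul_apply, cons_val_zero, cons_val_one, mul_one, mul_zero, add_zero, zero_add,
    Pi.smul_apply, smul_eq_mul] at b5 c5
  replace b4 := b4.resolve_right fun b => by grind
  replace c4 := c4.resolve_right fun b => by grind
  rw [dt, b4.1, b5] at b3
  rw [dt, c4.1, c5] at c3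
  field_simp at b3 c3
  convert mul_mem b1 c1 using 1
  apply gl_ext <;> rw [gl_mul_apply] <;> simp only [b4, c4, a1, a2, a3, b5, c5, mul_zero, zero_mul,
    add_zero, zero_add] <;> field_simp <;> grind

theorem act_mon {S : Subgroup (Gh p)} (h : Fr S eh) (hA : Mon A) : ∃ g, Act eh g A := by
  have key : ∀ A : G2 p, A 0 1 = 0 → A 1 0 = 0 → ∃ g, Act eh g A := fun A a1 a2 => by
    have a4 := gl_det_ne A
    have n1 : A 0 0 ≠ 0 := by grind
    have n2 : A 1 1 ≠ 0 := by grind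
    exact ⟨_, (gl_ext rfl a1.symm a2.symm rfl : dg _ _ n1 n2 = A) ▸ act_d3 h n1 n2⟩
  rcases hA with a | a
  · exact key A a.1 a.2
  · obtain ⟨g, b⟩ := key (A * sw p) (by simp [-Units.val_mul, gl_mul_apply, sw, a.1])
      (by simp [-Units.val_mul, gl_mul_apply, sw, a.2])
    have := b.mul (h.act_inv fun v c => ⟨_, tt_eh h.two v c⟩)
    rw [mul_inv_cancel_right] at this
    exact ⟨_, this⟩

theorem rz2 {Γ : Type*} [Group Γ] [Finite Γ] {F : FS Γ} {e : V p → ZMod p → Γ} (hF : F.Sat p)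
    (h : Fr F.S e) (hU : Un F.S (Gh p)) (h1 : ![1, 0] ∈ RV.R F e) (h2 : ![0, 1] ∈ RV.R F e)
    (h3 : ∀ v ∈ RV.R F e, v 0 * v 1 = 0) : RzS p F := by
  have D := dat hF h
  obtain ⟨S₀, h₀⟩ := fr_eh h.two
  obtain ⟨i, hi, a⟩ := un_fr hU h h₀
  let N : Subgroup (Gh p) :=
    { carrier := {g | ∃ A ∈ RV.W F h, Act eh g A}
      one_mem' := ⟨1, one_mem _, Act.one⟩
      mul_mem' := fun ⟨A, a1, a2⟩ ⟨B, b1, b2⟩ => ⟨A * B, mul_mem a1 b1, a2.mul b2⟩
      inv_mem' := fun ⟨A, a1, a2⟩ => ⟨A⁻¹, inv_mem a1, h₀.act_inv a2⟩ }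
  have b1 : F.S ≤ (Kh p ⊔ N).map i := fun s hs => by
    obtain ⟨v, c, rfl⟩ := (h.mem _).1 hs
    exact ⟨_, mem_sup_right ⟨1, one_mem _, h₀.act_S (h₀.mem' v c)⟩, a v c⟩
  have b2 : Syl p F.S ((Kh p ⊔ N).map i) := h.syl b1 fun b => card_gh (by
    rintro rfl
    exact h.two rfl) ((b.trans (card_map_dvd _ i)).trans (card_subgroup_dvd_card _))
  have h' : Fr (ofSub ((Kh p ⊔ N).map i) F.S).S e := h
  have hE := sat_ofSub h.pg b2
  refine ⟨_, b2, eq_of hF hE h h' ?_ ?_⟩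
  · ext A
    rw [mem_W_ofSub b1]
    constructor
    · intro hA
      obtain ⟨g, b⟩ := act_mon h₀ (D.mon h1 h2 h3 hA)
      exact ⟨_, mem_map_of_mem i (mem_sup_right ⟨A, hA, b⟩), (act_map hi a).2 b⟩
    · rintro ⟨_, ⟨g, hg, rfl⟩, b⟩
      obtain ⟨_, ⟨k, δ, c1, rfl⟩, n, ⟨B, c2, c3⟩, rfl⟩ := mem_sup_of_normal_left.1 hg
      have c4 := ((act_map hi a).1 b).mul (h₀.act_inv c3)
      rw [mul_inv_cancel_right] at c4
      obtain ⟨d1, d2, γ, d3⟩ := act_cube h₀ c4 c1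
      simpa using mul_mem (D.t0 h1 h2 h3 d1 d2 d3) c2
  · have D' := dat hE h'
    ext v
    constructor
    · intro hv
      have k : ∀ u : V p, u ≠ 0 → (∃ g ∈ Kh p, g * eh u 0 * g⁻¹ = eh 0 2) → om u v = 0 →
          v ∈ RV.R (ofSub ((Kh p ⊔ N).map i) F.S) e := by
        rintro u hu ⟨g, c1, c2⟩ c3
        obtain ⟨t, rfl⟩ := exists_smul_of_om hu c3
        exact D'.smul _ ((mem_R_ofSub b1 h).2 ⟨hu, _, mem_map_of_mem i (mem_sup_left c1), 2,
          by simpa [a] using congrArg i c2⟩) _ (left_ne_zero_of_smul hv.1)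
      rcases mul_eq_zero.1 (h3 v hv) with c | c
      · exact k _ (by simp) (rg_lower h.two).2 (by simp [om, c])
      · exact k _ (by simp) (rg_lower h.two).1 (by simp [om, c])
    · intro hv
      obtain ⟨c1, _, ⟨g, -, rfl⟩, d, c2⟩ := (mem_R_ofSub b1 h).1 hv
      have k : ∀ u ∈ RV.R F e, om u v = 0 → v ∈ RV.R F e := fun u hu c3 => by
        obtain ⟨t, rfl⟩ := exists_smul_of_om hu.1 c3
        exact D.smul _ hu _ (left_ne_zero_of_smul c1)
      rcases mul_eq_zero.1 (rg_upper h.two (x := g) (v := v) (d := d) (hi (by simpa [a] using c2)))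
        with c | c
      · exact k _ h2 (by simp [om, c])
      · exact k _ h1 (by simp [om, c])

end H15.RV
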