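import Cfsg.Agent.H15.RV.G

/-! The Ruiz–Viruel realizability theorem, modulo the four exceptional model groups. -/

set_option autoImplicit false
set_option linter.unusedSectionVars false

namespace H15.RV
open Subgroup H25 H25.FS H27 H4

variable {p : ℕ} [hp : Fact p.Prime]

/-- existence of a model -/
def HasMd (p : ℕ) [Fact p.Prime] (t : Prop) : Prop :=
  ∃ (G : Type) (_ : Group G) (_ : Finite G), Md p G t

theorem rz_all {Γ : Type*} [Group Γ] [Finite Γ] {F : FS Γ} {e : V p → ZMod p → Γ} (h7 : p ≠ 7)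
    (hF : F.Sat p) (h : Fr F.S e) (hU : Un F.S (Gh p))
    (hm : (p = 3 ∨ p = 5 ∨ p = 13) → ∀ t, ∃ (G : Type) (_ : Group G) (_ : Finite G),
      Md p G t ∧ Un F.S G) : F.Constr p ∨ RzS p F := by
  by_cases h3 : T3 (R F e)
  · have hq := (dat hF h).prime h3 h7
    obtain ⟨G, _, _, a1, a2⟩ := hm hq (Ty (W F h))
    exact .inr (rz3 hq hF h h3 a2 a1)
  by_cases h1 : ∀ v ∈ R F e, ∀ w ∈ R F e, om v w = 0
  · exact .inl (constr hF h h1)
  push Not at h1
  obtain ⟨v, hv, w, hw, a⟩ := h1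
  let B : G2 p := gl2 (v 0) (w 0) (v 1) (w 1) (by rw [om] at a; rwa [mul_comm (w 0)])
  have d1 : B • ![1, 0] = v := vext (by simp [B, gl_smul_apply]) (by simp [B, gl_smul_apply])
  have d2 : B • ![0, 1] = w := vext (by simp [B, gl_smul_apply]) (by simp [B, gl_smul_apply])
  refine .inr (rz2 hF (h.chg B) hU (mem_R_chg.2 (d1 ▸ hv)) (mem_R_chg.2 (d2 ▸ hw)) fun u hu => ?_)
  by_contra b
  refine h3 ⟨v, hv, w, hw, _, mem_R_chg.1 hu, a, ?_, ?_⟩
  · rw [← d1, om_smul]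
    exact mul_ne_zero (dt_ne B) (by simpa [om] using right_ne_zero_of_mul b)
  · rw [← d2, om_smul]
    exact mul_ne_zero (dt_ne B) (by simpa [om] using left_ne_zero_of_mul b)

theorem realizable {Ω : Type*} [Group Ω] {S : Subgroup Ω} [Finite S] (hS : IsPGroup p S)
    (F : Cfsg.FusionSystem S) (hF : F.IsSaturated p) (hp2 : p ≠ 2) (h7 : p ≠ 7)
    (hE : Cfsg.IsExtraspecial p S) (hc : Nat.card S = p ^ 3) (he : Monoid.exponent S = p)
    (hm : (p = 3 ∨ p = 5 ∨ p = 13) → HasMd p True ∧ HasMd p False) : F.IsRealizable p := by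
  have : ∃ m, 0 < m ∧ Nat.card (Gh p) ∣ m ∧ ((p = 3 ∨ p = 5 ∨ p = 13) → ∀ t,
      ∃ (G : Type) (_ : Group G) (_ : Finite G), Md p G t ∧ Nat.card G ∣ m) := by
    by_cases hq : p = 3 ∨ p = 5 ∨ p = 13
    · obtain ⟨⟨G₁, _, _, a1⟩, G₂, _, _, a2⟩ := hm hq
      refine ⟨Nat.card (Gh p) * (Nat.card G₁ * Nat.card G₂), Nat.mul_pos Nat.card_pos
        (Nat.mul_pos Nat.card_pos Nat.card_pos), Dvd.intro _ rfl, fun _ t => ?_⟩
      by_cases ht : t
      · exact ⟨G₁, _, inferInstance, eq_true ht ▸ a1, (Dvd.intro _ rfl).mul_left _⟩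
      · exact ⟨G₂, _, inferInstance, eq_false ht ▸ a2, (Dvd.intro_left _ rfl).mul_left _⟩
    · exact ⟨_, Nat.card_pos, dvd_rfl, fun h => absurd h hq⟩
  obtain ⟨m, m0, m1, m2⟩ := this
  obtain ⟨N, θ, U, hU⟩ := exists_un S m0
  have R := U.rep le_rfl F
  obtain ⟨e, h⟩ := exists_fr_es hp2 hE hc he
  have h' := h.map U.inj
  rw [← MonoidHom.range_eq_map, ← im_self] at h'
  rcases rz_all h7 (R.sat hS hF) h' (hU _ m1) (fun hq t => by
    obtain ⟨G, _, _, a1, a2⟩ := m2 hq t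
    exact ⟨G, _, inferInstance, a1, hU G a2⟩) with a | a
  · exact realizable_of_constr R hS a
  · obtain ⟨H, a⟩ := a.rz
    exact a.realizable R hS

end H15.RV
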