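import Cfsg.Agent.H15.RV.H

/-! Criteria for the exceptional model groups. -/

set_option autoImplicit false
set_option linter.unusedSectionVars false

namespace H15.RV
open Subgroup H25 H25.FS H27 H4

variable {p : ℕ} [hp : Fact p.Prime] {G : Type*} [Group G] {x y z a b c n : G}

theorem fr_of (h2 : (2 : ZMod p) ≠ 0) (hx : x ^ p = 1) (z1 : z ≠ 1) (h : x * y = z * y * x)
    (xz : x * z = z * x) (yz : y * z = z * y) (ha : a * x = z * a) (hb : b * y = z * b)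
    (hc : c * (x * y) = z * c) : ∃ (S : Subgroup G) (e : V p → ZMod p → G), Fr S e ∧
      e ![1, 0] 0 = x ∧ e ![0, 1] 0 = y ∧ e 0 2 = z ∧ T3 (Rg e) := by
  have hz : z ^ p = 1 := by
    rw [show z = a * x * a⁻¹ by rw [ha]; group, conj_pow, hx]; group
  have hy : y ^ p = 1 := by
    rw [show y = b⁻¹ * z * b⁻¹⁻¹ by rw [mul_assoc, inv_inv, ← hb]; group, conj_pow, hz]; group
  obtain ⟨S, e, f, e1, e2, e3⟩ := exists_fr h2 hx hy hz z1 h xz yz
  refine ⟨S, e, f, e1, e2, e3, ![1, 0], f.mem_Rg (c := 0) (d := 2) (g := a) (by simp) ?_,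
    ![0, 1], f.mem_Rg (c := 0) (d := 2) (g := b) (by simp) ?_,
    ![1, 1], f.mem_Rg (c := 1) (d := 2) (g := c) (by simp) ?_, by simp [om], by simp [om],
    by simp [om]⟩
  · rw [e1, e3, ha]; group
  · rw [e2, e3, hb]; group
  · have : e ![1, 1] 1 = x * y := by
      rw [← e1, ← e2, f.mul]; congr 1
      · exact vext (by simp) (by simp)
      · simp [om]
    rw [this, e3, hc]; group

theorem md_of (h3 : p ≠ 3) (h4 : ¬ p ^ 4 ∣ Nat.card G) (h2 : (2 : ZMod p) ≠ 0) (hx : x ^ p = 1)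
    (z1 : z ≠ 1) (h : x * y = z * y * x) (xz : x * z = z * x) (yz : y * z = z * y)
    (ha : a * x = z * a) (hb : b * y = z * b) (hc : c * (x * y) = z * c) (t : Prop) : Md p G t := by
  obtain ⟨S, e, f, -, -, -, h⟩ := fr_of h2 hx z1 h xz yz ha hb hc
  exact ⟨S, e, f, h4, h, fun a => absurd a h3⟩

theorem md3t (h4 : ¬ 3 ^ 4 ∣ Nat.card G) (hx : x ^ 3 = 1)
    (z1 : z ≠ 1) (h : x * y = z * y * x) (xz : x * z = z * x) (yz : y * z = z * y)
    (ha : a * x = z * a) (hb : b * y = z * b) (hc : c * (x * y) = z * c) (n1 : n * x = y * n)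
    (n2 : n * y = x * y * z * z * n) : Md 3 G True := by
  obtain ⟨S, e, f, e1, e2, e3, h⟩ := fr_of (p := 3) (by decide) hx z1 h xz yz ha hb hc
  refine ⟨S, e, f, h4, h, fun _ => iff_true_intro ⟨n, gl2 0 1 1 1 (by decide), f.act_of_gen
    ⟨0, ?_⟩ ⟨2, ?_⟩, fun a => ?_⟩⟩
  · rw [e1, n1, mul_inv_cancel_right, ← e2]; congr 1
    exact vext (by simp [gl_smul_apply]) (by simp [gl_smul_apply])
  · rw [e2, n2, mul_inv_cancel_right, ← e1, ← e2, ← e3, f.mul, f.mul, f.mul]; congr 1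
    exact vext (by simp [gl_smul_apply]) (by simp [gl_smul_apply])
  · have := congrArg (fun A : G2 3 => A.val 0 0) a
    revert this
    decide

theorem md3f [Finite G] {Ω : Type*} (f : G →* Equiv.Perm Ω) (h4 : ¬ 3 ^ 4 ∣ Nat.card G)
    (hx : x ^ 3 = 1) (z1 : z ≠ 1) (h : x * y = z * y * x) (xz : x * z = z * x)
    (yz : y * z = z * y) (ha : a * x = z * a) (hb : b * y = z * b) (hc : c * (x * y) = z * c)
    {i j k : Ω} (u : ∀ l, f x l = l → f z l = l → l = i) (jk : j ≠ k) (j1 : f y j = j)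
    (j2 : f z j = j) (k1 : f y k = k) (k2 : f z k = k) : Md 3 G False := by
  obtain ⟨S, e, F, e1, e2, e3, h⟩ := fr_of (p := 3) (by decide) hx z1 h xz yz ha hb hc
  refine ⟨S, e, F, h4, h, fun _ => iff_false_intro ?_⟩
  rintro ⟨g, A, a1, a2⟩
  have F₀ : Fr (ofSub ⊤ S).S e := F
  have D := dat (sat_ofSub F.pg (F.syl le_top (by rwa [card_top]))) F₀
  obtain ⟨B, b1, b2⟩ := D.ty_trans ⟨A, (mem_W_ofSub le_top F₀).2 ⟨g, mem_top _, a1⟩, a2⟩
    (v := ![0, 1]) (by simp)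
  obtain ⟨m, -, b3⟩ := (mem_W_ofSub le_top F₀).1 b1
  have key : ∀ l, f y l = l → f z l = l → f m⁻¹ l = i := fun l l1 l2 => by
    let H := (MulAction.stabilizer (Equiv.Perm Ω) l).comap f
    have c1 : ∀ d, e 0 d ∈ H := F.z_mem (d := 2) (by rw [e3]; exact l2) (by decide)
    have c2 : ∀ s, m * s * m⁻¹ ∈ H → f s (f m⁻¹ l) = f m⁻¹ l := fun s hs => by
      have : f (m * s * m⁻¹) l = l := hs
      conv_rhs => rw [← this]
      simp
    obtain ⟨d, c3⟩ := b3 ![1, 0] 0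
    refine u _ (c2 _ ?_) (c2 _ ?_)
    · rw [← e1, c3, b2, F.split, e2]; exact H.mul_mem l1 (c1 d)
    · rw [← e3, F.act_z b3]; exact c1 _
  exact jk ((f m⁻¹).injective ((key j j1 j2).trans (key k k1 k2).symm))

end H15.RV
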