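import Cfsg.Agent.H15.RV.I

/-! Homologies of order four in a `13'`-group of `GL₃(13)`. -/

set_option autoImplicit false

namespace H15.RV

instance fact13 : Fact (Nat.Prime 13) := ⟨by norm_num⟩

abbrev K13 : Type := ZMod 13
abbrev T4 : Type := K13 × K13 × K13 × K13

/-- product of `2 × 2` matrices -/
def m4 (a b : T4) : T4 := (a.1 * b.1 + a.2.1 * b.2.2.1, a.1 * b.2.1 + a.2.1 * b.2.2.2,
  a.2.2.1 * b.1 + a.2.2.2 * b.2.2.1, a.2.2.1 * b.2.1 + a.2.2.2 * b.2.2.2)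

/-- value of a word -/
def w4 {α : Type*} (m : α → α → α) (e a b : α) (w : List Bool) : α :=
  w.foldr (fun k r => m (cond k b a) r) e

theorem rho_chk : ∀ μ α β : K13, μ * μ = -1 → (α = 0 ∧ β = 0) ∨ α * β = 7 ∨
    ∃ w ∈ [[true, false], [false, true, false, false], [false, false, true, false, true, false],
      [false, false, true, false, true, true, true, false],
      [true, true, false, true, true, false, true, true, false, false]],
      (fun M : T4 => (M.1 + M.2.2.2) ^ 2 = 4 * (M.1 * M.2.2.2 - M.2.1 * M.2.2.1) ∧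
        ¬ (M.2.1 = 0 ∧ M.2.2.1 = 0 ∧ M.1 = M.2.2.2))
      (w4 m4 (1, 0, 0, 1) (-1, -(1 + μ) * α, 0, μ) (μ, 0, -(1 + μ) * β, -1) w) := by
  decide +kernel

variable {L : Type*} [AddCommGroup L] [Module K13 L] {H : Submonoid (Module.End K13 L)} {μ : K13}
  {u v : L} {φ ψ : L →ₗ[K13] K13} {A : Module.End K13 L}

theorem nil_zero {m : ℕ} (hm : ¬ 13 ∣ m) (h : A ^ m = 1) {l : K13} {x y : L} (h1 : A x = l • x + y)
    (h2 : A y = l • y) : y = 0 := by
  have k : ∀ n : ℕ, (A ^ (n + 1)) x = l ^ (n + 1) • x + ((n + 1) * l ^ n) • y ∧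
      (A ^ (n + 1)) y = l ^ (n + 1) • y := fun n => by
    induction n with
    | zero => simp [h1, h2]
    | succ n ih =>
      rw [pow_succ' A, Module.End.mul_apply, Module.End.mul_apply, ih.1, ih.2, map_add, map_smul,
        map_smul, map_smul, h1, h2]
      constructor
      · push_cast; module
      · module
  obtain ⟨n, rfl⟩ : ∃ n, m = n + 1 := ⟨m - 1, by rcases m with _ | m <;> simp at hm ⊢⟩
  obtain ⟨a, b⟩ := k n
  rw [h, Module.End.one_apply] at a b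
  by_contra c
  have e : l ^ (n + 1) = 1 := by
    by_contra d
    exact c ((smul_eq_zero_iff_right (sub_ne_zero.2 d)).1 (by rw [sub_smul, ← b, one_smul, sub_self]))
  rw [e, one_smul, left_eq_add, smul_eq_zero_iff_left c, mul_eq_zero] at a
  rcases a with a | a
  · exact hm ((ZMod.natCast_eq_zero_iff _ _).1 (by simpa using a))
  · simp [pow_succ, a] at e

/-- centres of homologies -/
def Cen (H : Submonoid (Module.End K13 L)) (μ : K13) (u : L) (φ : L →ₗ[K13] K13) : Prop :=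
  φ u = 1 ∧ ∃ C ∈ H, ∀ v, C v = μ • v - ((1 + μ) * φ v) • u

variable (hH : ∀ A ∈ H, ∃ m, ¬ 13 ∣ m ∧ A ^ m = 1)
include hH

theorem Cen.rho (hμ : μ * μ = -1) (h : Cen H μ u φ) (k : Cen H μ v ψ)
    (i : ∀ a b : K13, a • u + b • v = 0 → a = 0 ∧ b = 0) : (φ v = 0 ∧ ψ u = 0) ∨ φ v * ψ u = 7 := by
  obtain ⟨h1, C, h2, h3⟩ := h
  obtain ⟨k1, D, k2, k3⟩ := k
  rcases rho_chk μ (φ v) (ψ u) hμ with a | a | ⟨w, -, hd, b⟩
  · exact .inl a
  · exact .inr a
  have key : ∃ A ∈ H, (fun M : T4 => A u = M.1 • u + M.2.2.1 • v ∧ A v = M.2.1 • u + M.2.2.2 • v)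
      (w4 m4 (1, 0, 0, 1) (-1, -(1 + μ) * φ v, 0, μ) (μ, 0, -(1 + μ) * ψ u, -1) w) := by
    clear hd b
    induction w with
    | nil => exact ⟨1, one_mem _, by simp [w4]⟩
    | cons c w ih =>
      obtain ⟨A, a1, a2, a3⟩ := ih
      cases c
      · refine ⟨C * A, mul_mem h2 a1, ?_, ?_⟩ <;>
          simp only [Module.End.mul_apply, a2, a3, map_add, map_smul, h3, h1, w4, m4, List.foldr,
            cond_false] <;> module
      · refine ⟨D * A, mul_mem k2 a1, ?_, ?_⟩ <;>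
          simp only [Module.End.mul_apply, a2, a3, map_add, map_smul, k3, k1, w4, m4, List.foldr,
            cond_true] <;> module
  generalize w4 _ _ _ _ _ = M at hd b key
  obtain ⟨a, b', c, d⟩ := M
  obtain ⟨A, a1, a2, a3⟩ := key
  obtain ⟨m, m1, m2⟩ := hH A a1
  simp only at a2 a3 b hd
  have e1 := i _ _ (nil_zero m1 m2 (l := 7 * (a + d)) (x := u) (y := (a - 7 * (a + d)) • u + c • v)
    (by rw [a2]; module) (by
      rw [map_add, map_smul, map_smul, a2, a3]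
      match_scalars <;> grind))
  have e2 := i _ _ (nil_zero m1 m2 (l := 7 * (a + d)) (x := v) (y := b' • u + (d - 7 * (a + d)) • v)
    (by rw [a3]; module) (by
      rw [map_add, map_smul, map_smul, a2, a3]
      match_scalars <;> grind))
  exact (b ⟨e2.1, e1.2, by grind⟩).elim

theorem Cen.conj (h : Cen H μ u φ) (hA : A ∈ H) {l : K13} (hl : l ≠ 0) (e : A u = l • v) :
    ∃ ψ, Cen H μ v ψ ∧ ∀ x, ψ (A x) = l * φ x := by
  obtain ⟨m, m1, m2⟩ := hH A hA
  obtain ⟨n, rfl⟩ : ∃ n, m = n + 1 := ⟨m - 1, by rcases m with _ | m <;> simp at m1 ⊢⟩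
  have a1 : ∀ x, (A ^ n) (A x) = x := fun x => by rw [← Module.End.mul_apply, ← pow_succ, m2]; rfl
  have a2 : ∀ x, A ((A ^ n) x) = x := fun x => by rw [← Module.End.mul_apply, ← pow_succ', m2]; rfl
  obtain ⟨h1, C, h2, h3⟩ := h
  refine ⟨l • φ ∘ₗ (A ^ n), ⟨?_, A * C * A ^ n, mul_mem (mul_mem hA h2) (pow_mem hA n), fun x => ?_⟩,
    fun x => by simp [a1]⟩
  · have := congrArg φ (a1 u)
    rw [e, map_smul, map_smul, h1] at this
    simpa using this
  · simp only [Module.End.mul_apply, h3, map_sub, map_smul, a2, e, LinearMap.smul_apply,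
      LinearMap.comp_apply]
    module

omit hH in
theorem lin3 (φ : (Fin 3 → K13) →ₗ[K13] K13) (v : Fin 3 → K13) :
    φ v = v 0 * φ ![1, 0, 0] + v 1 * φ ![0, 1, 0] + v 2 * φ ![0, 0, 1] := by
  rw [← smul_eq_mul, ← smul_eq_mul, ← smul_eq_mul, ← map_smul, ← map_smul, ← map_smul, ← map_add,
    ← map_add]
  congr 1
  ext i; fin_cases i <;> simp

omit hH in
theorem ind3 {u v : Fin 3 → K13} (i j : Fin 3) (h : u i * v j - u j * v i ≠ 0) (a b : K13)
    (e : a • u + b • v = 0) : a = 0 ∧ b = 0 := by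
  have e1 := congrFun e i
  have e2 := congrFun e j
  simp only [Pi.add_apply, Pi.smul_apply, smul_eq_mul, Pi.zero_apply] at e1 e2
  constructor <;> grind

end H15.RV

namespace H15.RV

theorem no_homol {H : Submonoid (Module.End K13 (Fin 3 → K13))} {μ : K13}
    (hH : ∀ A ∈ H, ∃ m, ¬ 13 ∣ m ∧ A ^ m = 1) (hμ : μ * μ = -1)
    (hC : ∃ C ∈ H, ∀ v, C v = ![-v 0, μ * v 1, μ * v 2])
    (hY : ∃ Y ∈ H, ∀ v, Y v = ![v 0, -μ * v 1, μ * v 2])
    (h : ∀ v ∈ [![0, 1, 0], ![0, 0, 1], ![0, 1, μ]], ∃ A ∈ H, ∃ l : K13, l ≠ 0 ∧ A ![1, 0, 0] = l • v) :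
    False := by
  have m0 : μ ≠ 0 := fun a => by simp [a] at hμ
  have c0 : Cen H μ ![1, 0, 0] (LinearMap.proj 0) := by
    obtain ⟨C, a, b⟩ := hC
    refine ⟨rfl, C, a, fun v => ?_⟩
    rw [b]; ext i; fin_cases i <;> simp
    ring
  obtain ⟨Y, y1, y2⟩ := hY
  simp only [List.forall_mem_cons] at h
  obtain ⟨⟨A, a1, l, a2, a3⟩, ⟨B, b1, k, b2, b3⟩, ⟨C, d1, n, d2, d3⟩, -⟩ := h
  obtain ⟨φ, c1, a4⟩ := c0.conj hH a1 a2 a3
  obtain ⟨ψ, c2, -⟩ := c0.conj hH b1 b2 b3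
  obtain ⟨χ, c3, -⟩ := c0.conj hH d1 d2 d3
  obtain ⟨φ', c4, a5⟩ := c1.conj hH y1 (v := ![0, 1, 0]) (neg_ne_zero.2 m0) (by
    rw [y2]; ext i; fin_cases i <;> simp)
  have a6 := a5 ![0, 0, 1]
  rw [y2, lin3] at a6
  have r1 := c0.rho hH hμ c1 (ind3 0 1 (by simp))
  have r3 := c0.rho hH hμ c3 (ind3 0 1 (by simp))
  have r4 := c1.rho hH hμ c2 (ind3 1 2 (by simp))
  have r5 := c4.rho hH hμ c2 (ind3 1 2 (by simp))
  have r6 := c1.rho hH hμ c3 (ind3 1 2 (by simpa))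
  have e1 := c1.1
  have e3 := c3.1
  rw [lin3 φ] at r6
  rw [lin3] at e3
  simp at r1 r3 r6 a6 e3
  have e4 : φ ![1, 0, 0] = 0 := by grind
  have e5 : φ ![0, 0, 1] = 0 := by grind
  have e6 : χ ![1, 0, 0] = 0 := by grind
  have e7 : μ * χ ![0, 0, 1] = 7 := by grind
  have f : ∀ x, x 0 = 0 → A x 1 = 0 := fun x hx => by
    have := a4 x
    rw [lin3] at this
    simp at this
    grind
  have key : ∀ x θ, Cen H μ x θ → x 0 = 0 → A x 0 = 0 ∨ A x 2 = 0 := fun x θ c hx => by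
    by_contra! g
    obtain ⟨η, c, -⟩ := c.conj hH a1 (v := A x) one_ne_zero (one_smul _ _).symm
    have g1 := f x hx
    have s0 := c0.rho hH hμ c (ind3 0 2 (by simpa using g.2))
    have s1 := c1.rho hH hμ c (ind3 1 2 (by simpa using g.2))
    have s3 := c3.rho hH hμ c (ind3 1 0 (by simpa using g.1))
    have s4 := c.1
    rw [lin3 φ] at s1
    rw [lin3 χ, lin3 η] at s3
    rw [lin3] at s4
    simp at s0 s3
    grind
  have inj : ∀ x, A x = 0 → x = 0 := fun x hx => by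
    obtain ⟨m, m1, m2⟩ := hH A a1
    obtain ⟨n, rfl⟩ : ∃ n, m = n + 1 := ⟨m - 1, by rcases m with _ | m <;> simp at m1 ⊢⟩
    have : (A ^ (n + 1)) x = x := by rw [m2]; rfl
    rw [← this, pow_succ, Module.End.mul_apply, hx, map_zero]
  have k1 := key _ _ c1 rfl
  have k2 := key _ _ c2 rfl
  have k3 := key _ _ c3 rfl
  have f1 := f ![0, 1, 0] rfl
  have f2 := f ![0, 0, 1] rfl
  have g : ∀ s t : K13, A ![0, s, t] = s • A ![0, 1, 0] + t • A ![0, 0, 1] := fun s t => by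
    rw [← map_smul, ← map_smul, ← map_add]; congr 1; ext i; fin_cases i <;> simp
  have g' : ∀ s t : K13, s * A ![0, 1, 0] 0 + t * A ![0, 0, 1] 0 = 0 →
      s * A ![0, 1, 0] 2 + t * A ![0, 0, 1] 2 = 0 → s = 0 ∧ t = 0 := fun s t u v => by
    have := inj ![0, s, t] (by rw [g]; ext i; fin_cases i <;> simp [u, v, f1, f2])
    exact ⟨congrFun this 1, congrFun this 2⟩
  rw [g] at k3
  simp only [Pi.add_apply, Pi.smul_apply, smul_eq_mul] at k3
  generalize A ![0, 1, 0] 0 = p0, A ![0, 1, 0] 2 = p2, A ![0, 0, 1] 0 = q0, A ![0, 0, 1] 2 = q2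
    at k1 k2 k3 g'
  have t1 := g' q2 (-p2)
  have t2 := g' q0 (-p0)
  have t3 := g' 1 0
  have t4 := g' 0 1
  clear * - k1 k2 k3 t1 t2 t3 t4 m0
  rcases k1 with rfl | rfl <;> rcases k2 with rfl | rfl <;> simp_all [mul_comm]

end H15.RV
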