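import Cfsg.Agent.H15.RV.L
import Cfsg.Agent.H7.ZStar
import Cfsg.Agent.H2.Coprime

/-! A local criterion for the `13`-local structure of the Monster. -/

set_option autoImplicit false
set_option linter.unusedSectionVars false

namespace H15.RV
open Subgroup H2 Cfsg

variable {G : Type*} [Group G] [Finite G] {x z t a b c y₁ y₂ : G} {P R T : Subgroup G}

theorem pgk {p k : ℕ} (h : a ^ p ^ k = 1) : IsPGroup p (zpowers a) := fun ⟨g, n, e⟩ =>
  ⟨k, Subtype.ext (by
    show g ^ p ^ k = 1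
    rw [← e, ← zpow_natCast, ← zpow_mul, mul_comm, zpow_mul, zpow_natCast, h, one_zpow])⟩

theorem pg13 (h : a ^ 13 = 1) : IsPGroup 13 (zpowers a) := pgk (k := 1) h

theorem part13 (a : G) : ∃ m, ¬ 13 ∣ m ∧ IsPGroup 13 (zpowers (a ^ m)) := by
  obtain ⟨k, m, h, e⟩ := Nat.exists_eq_pow_mul_and_not_dvd (orderOf_pos a).ne' 13 (by norm_num)
  exact ⟨m, h, pgk (k := k) (by rw [← pow_mul, mul_comm, ← e, pow_orderOf_eq_one])⟩

theorem zp13 (c : Nat.card R ∣ 13) (ha : a ∈ R) (a1 : a ≠ 1) (hb : b ∈ R) : b ∈ zpowers a := by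
  have := card_dvd_of_le (zpowers_le.2 ha)
  rcases (Nat.dvd_prime (by norm_num)).1 (this.trans c) with e | e
  · exact absurd (zpowers_eq_bot.1 (card_eq_one.1 e)) a1
  · rwa [eq_of_le_of_card_ge (zpowers_le.2 ha) (e ▸ Nat.le_of_dvd (by norm_num) c)]

theorem zp2 (z2 : z * z = 1) (h : a ∈ zpowers z) : a = 1 ∨ a = z := by
  obtain ⟨n, rfl⟩ := h
  have : z ^ (2 : ℤ) = 1 := by rw [zpow_two, z2]
  obtain ⟨k, rfl | rfl⟩ := n.even_or_odd' <;> simp [zpow_add, zpow_mul, this]

theorem card13 (hz : ¬ 13 ^ 2 ∣ Nat.card (centralizer {z})) (h : IsConj z t) (hR : IsPGroup 13 R)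
    (l : R ≤ centralizer {t}) : Nat.card R ∣ 13 := by
  obtain ⟨g, rfl⟩ := isConj_iff.1 h
  obtain ⟨k, e⟩ := IsPGroup.iff_card.1 hR
  have : Nat.card R ∣ Nat.card (centralizer {z}) := by
    rw [← card_map_of_injective (f := (MulAut.conj g⁻¹).toMonoidHom) (MulAut.conj g⁻¹).injective]
    refine card_dvd_of_le ?_
    rintro _ ⟨r, hr, rfl⟩
    have := mem_centralizer_singleton_iff.1 (l hr)
    rw [mem_centralizer_singleton_iff]
    simp only [MulEquiv.coe_toMonoidHom, MulAut.conj_apply, inv_inv]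
    calc _ = g⁻¹ * (r * (g * z * g⁻¹)) * g := by group
      _ = _ := by rw [this]; group
  rw [e] at this ⊢
  have : k ≤ 1 := by
    by_contra c
    exact hz ((pow_dvd_pow 13 (by omega)).trans this)
  simpa using pow_dvd_pow 13 this

theorem mem13 (hz : ¬ 13 ^ 2 ∣ Nat.card (centralizer {z})) (h : IsConj z t) (hR : IsPGroup 13 R)
    (l : R ≤ centralizer {t}) (ha : a ∈ R) (a1 : a ≠ 1) (hb : b ∈ R) : b ∈ zpowers a :=
  zp13 (card13 hz h hR l) ha a1 hb

theorem conj13 (hz : ¬ 13 ^ 2 ∣ Nat.card (centralizer {z})) (x13 : x ^ 13 = 1) (x1 : x ≠ 1)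
    (xz : x * z = z * x) (h : IsConj z t) (ha : a ^ 13 = 1) (c : a * t = t * a) :
    ∃ g, g * a * g⁻¹ ∈ zpowers x := by
  obtain ⟨g, rfl⟩ := isConj_iff.1 h
  have l : zpowers x ≤ centralizer {z} := zpowers_le.2 (mem_centralizer_singleton_iff.2 xz)
  obtain ⟨k, -, e⟩ := exists_conj_mem_of_not_dvd_relIndex (P := zpowers (g⁻¹ * a * g⁻¹⁻¹))
    (H := zpowers x) (L := centralizer {z}) (pg13 (by rw [conj_pow, ha]; group))
    (zpowers_le.2 (mem_centralizer_singleton_iff.2 (by
      calc _ = g⁻¹ * (a * (g * z * g⁻¹)) * g := by group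
        _ = _ := by rw [c]; group))) fun d => hz (by
      rw [← H4.card_mul_relIndex l, Nat.card_zpowers, orderOf_eq_prime x13 x1, sq]
      exact Nat.mul_dvd_mul_left 13 d)
  exact ⟨k⁻¹ * g⁻¹, by simpa [mul_assoc] using e _ (mem_zpowers _)⟩

theorem exists_P (h2 : 13 ^ 2 ∣ Nat.card G) (hz : ¬ 13 ^ 2 ∣ Nat.card (centralizer {z}))
    (x13 : x ^ 13 = 1) (x1 : x ≠ 1) (z2 : z * z = 1) (z1 : z ≠ 1) (xz : x * z = z * x)
    (hu : ∀ u, u * u = 1 → u * x = x * u → u * z = z * u → u = 1 ∨ u = z) (hT : IsPGroup 2 T)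
    (hN : T ≤ normalizer (zpowers x : Set G)) : ∃ P : Subgroup G, IsPGroup 13 P ∧ x ∈ P ∧
      P ≤ centralizer {x} ∧ T ≤ normalizer (P : Set G) ∧ ¬ P ≤ centralizer {z} := by
  have cx : centralizer {x} = centralizer (zpowers x : Set G) := by
    rw [zpowers_eq_closure, centralizer_closure]
  set N := normalizer (zpowers x : Set G)
  have l1 : centralizer {x} ≤ N := cx ▸ centralizer_le_normalizer _
  have l2 : N ≤ normalizer (centralizer {x} : Subgroup G) := cx ▸ le_normalizer_centralizer le_rfl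
  have zx : z ∈ centralizer {x} := mem_centralizer_singleton_iff.2 xz.symm
  have iso : IsIsolatedInvolution (⟨z, l1 zx⟩ : N) := by
    refine ⟨orderOf_eq_prime (Subtype.ext (by simp [sq, z2])) fun e => z1 (congrArg Subtype.val e),
      fun g e => Subtype.ext ?_⟩
    refine (hu _ (by simp [mul_assoc, ← mul_assoc z, z2]) (mem_centralizer_singleton_iff.1
      (conj_mem_of_le_normalizer l2 g.2 zx)) (congrArg Subtype.val e).symm).resolve_left ?_
    simpa using z1
  let O := (pPrimeCore 2 N).map N.subtype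
  have o1 : N ≤ normalizer (O : Set G) :=
    le_normalizer.trans (normalizer_le_normalizer_map_of_characteristic _ _)
  have o2 : (Nat.card O).Coprime 2 := by
    rw [card_map_of_injective (subtype_injective _)]; exact H1.pPrimeCore_coprime
  have o3 : x ∈ O := ⟨⟨x, l1 (mem_centralizer_singleton_iff.2 rfl)⟩, H1.le_pPrimeCore
    (N := (zpowers x).subgroupOf N) inferInstance (by
      rw [Nat.card_congr (subgroupOfEquivOfLe le_normalizer).toEquiv, Nat.card_zpowers,
        orderOf_eq_prime x13 x1]; norm_num) (mem_zpowers x), rfl⟩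
  have o4 : ∀ T : Subgroup G, IsPGroup 2 T → (Nat.card T).Coprime (Nat.card (O ⊓ centralizer {x} : Subgroup G)) :=
    fun T hT => (coprime_card_of_isPGroup hT (o2.coprime_dvd_left (card_dvd_of_le inf_le_left))).symm
  have o5 := le_normalizer_inf o1 l2
  obtain ⟨P, p1, p2, p3, p4, p5⟩ := exists_invariant_sylow_ge (hN.trans o5) (o4 T hT)
    (.inl (isSolvable_of_isPGroup hT)) (U := zpowers x)
    (zpowers_le.2 ⟨o3, mem_centralizer_singleton_iff.2 rfl⟩) (pg13 x13) hN
  refine ⟨P, p3, p1 (mem_zpowers x), p2.trans inf_le_right, p5, fun l => ?_⟩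
  -- a subgroup of order `13 ^ 2` centralising `x`
  obtain ⟨R, r1, r2, r3⟩ : ∃ R : Subgroup G, IsPGroup 13 R ∧ R ≤ centralizer {x} ∧ ¬ Nat.card R ∣ 13 := by
    obtain ⟨S, hS⟩ := (pg13 x13).exists_le_sylow
    have := (nontrivial_iff_exists_ne_one S.1).2 ⟨x, hS (mem_zpowers x), x1⟩
    obtain ⟨c, c1⟩ := (nontrivial_iff_exists_ne_one (center S)).1 S.2.center_nontrivial
    refine ⟨S ⊓ centralizer {x}, S.2.to_inf_left, inf_le_right, fun d => ?_⟩
    obtain ⟨n, e⟩ := zp13 d (a := (c : G)) ⟨c.2, mem_centralizer_singleton_iff.2 (congrArg Subtype.val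
      (mem_center_iff.1 c1.1 ⟨x, hS (mem_zpowers x)⟩)).symm⟩ (by simpa using c1.2)
      ⟨hS (mem_zpowers x), mem_centralizer_singleton_iff.2 rfl⟩
    rw [inf_eq_left.2 fun s hs => mem_centralizer_singleton_iff.2 (e ▸ ((show Commute s c from
      congrArg Subtype.val (mem_center_iff.1 c1.1 ⟨s, hs⟩)).zpow_right n).eq)] at d
    exact absurd ((S.pow_dvd_card_of_pow_dvd_card h2).trans d) (by norm_num)
  have r4 : R ≤ O ⊓ centralizer {x} := fun r hr => by
    obtain ⟨n, n1, n2⟩ := exists_mul_mem_centralizer (A := zpowers z) (k := r)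
      ((zpowers_le.2 (l1 zx)).trans o5) (o4 _ (pgk (k := 1) (by simpa [sq] using z2)))
      (.inl (isSolvable_zpowers z)) fun a ha => by
        rcases zp2 z2 ha with rfl | rfl
        · simp
        · exact ⟨⟨_, H7.zstar iso ⟨r, l1 (r2 hr)⟩, rfl⟩,
            (centralizer {x}).mul_mem (mul_mem (mul_mem zx (r2 hr)) (inv_mem zx)) (inv_mem (r2 hr))⟩
    obtain ⟨m, m1, m2⟩ := part13 (n * r)
    have m3 : (n * r) ^ m ∈ zpowers x := mem13 hz (IsConj.refl z) ((pg13 x13).to_sup_of_normal_left' m2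
      (zpowers_le.2 (l1 (pow_mem (mul_mem n1.2 (r2 hr)) m)))) (sup_le (zpowers_le.2
        (mem_centralizer_singleton_iff.2 xz)) (zpowers_le.2 (pow_mem
          (centralizer_le (by simp) n2) m))) (mem_sup_left (mem_zpowers _)) x1
      (mem_sup_right (mem_zpowers _))
    have m4 : ∀ k : ℕ, (n * r) ^ k * (r ^ k)⁻¹ ∈ O ⊓ centralizer {x} := fun k => by
      induction k with
      | zero => simp
      | succ k ih =>
        have := mul_mem n1 (conj_mem_of_le_normalizer o5 (l1 (r2 hr)) ih)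
        convert this using 1
        rw [pow_succ', pow_succ']; group
    have m5 := mul_mem (inv_mem (m4 m)) (p2 (p1 m3))
    obtain ⟨k, e⟩ := r1 ⟨r, hr⟩
    refine zpowers_le.2 (show r ^ m ∈ _ by simpa using m5) (mem_zpowers_pow_iff.2 ?_)
    exact ((Nat.Prime.coprime_iff_not_dvd (by norm_num)).2 m1).symm.pow_right k |>.coprime_dvd_right
      (orderOf_dvd_of_pow_eq_one (congrArg Subtype.val e))
  obtain ⟨k, -, e⟩ := exists_conj_mem_of_not_dvd_relIndex r1 r4 p4
  refine r3 (Dvd.dvd.trans ?_ (card13 hz (IsConj.refl z) p3 l))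
  rw [← card_map_of_injective (f := (MulAut.conj k⁻¹).toMonoidHom) (MulAut.conj k⁻¹).injective]
  refine card_dvd_of_le ?_
  rintro _ ⟨r, hr, rfl⟩
  simpa using e r hr

end H15.RV
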