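import Cfsg.Agent.H15.RV.M

/-! The `13`-local criterion: exclusion of an abelian Sylow subgroup, and the model property. -/

set_option autoImplicit false
set_option linter.unusedSectionVars false

namespace H15.RV
open Subgroup H2 Cfsg

variable {G : Type*} [Group G] [Finite G] {x z t a b c y y₁ y₂ : G} {P R T : Subgroup G} {m : ℕ}

theorem pw_nat (h : a ^ 13 = 1) (n : ℕ) : a ^ (n : K13).val = a ^ n := by
  rw [ZMod.val_natCast, ← pow_eq_pow_mod _ h]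

theorem pw_neg (h : a ^ 13 = 1) (k : K13) : a ^ (-k).val = (a ^ k.val)⁻¹ :=
  eq_inv_of_mul_eq_one_left (by rw [← pw_add h]; simp)

theorem pw_nm (h : a ^ 13 = 1) (k : K13) : a ^ ((m : K13) * k).val = (a ^ m) ^ k.val := by
  rw [pw_mul h, pow_mul, pw_nat h]

theorem ab13 (h4 : ¬ 13 ^ 4 ∣ Nat.card G) (hm : (m : K13) * m = -1) (x13 : x ^ 13 = 1)
    (a13 : a ^ 13 = 1) (b13 : b ^ 13 = 1) (x1 : x ≠ 1) (a1 : a ≠ 1) (b1 : b ≠ 1)
    (xa : Commute x a) (xb : Commute x b) (ab : Commute a b) (c1 : c * x * c⁻¹ = x⁻¹)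
    (c2 : c * a * c⁻¹ = a ^ m) (c3 : c * b * c⁻¹ = b ^ m) (d1 : y * x * y⁻¹ = x)
    (d2 : y * a * y⁻¹ = (a ^ m)⁻¹) (d3 : y * b * y⁻¹ = b ^ m)
    (h : ∀ s ∈ [a, b, a * b ^ m], ∃ g, g * s * g⁻¹ ∈ zpowers x) : False := by
  obtain ⟨ι, hι⟩ : ∃ ι : (Fin 3 → K13) → G, ∀ v, ι v = x ^ (v 0).val * a ^ (v 1).val * b ^ (v 2).val :=
    ⟨_, fun _ => rfl⟩
  have add : ∀ v w, ι (v + w) = ι v * ι w := fun v w => by
    simp only [hι, Pi.add_apply, pw_add x13, pw_add a13, pw_add b13]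
    rw [((xb.pow_pow _ _).mul_left (ab.pow_pow _ _)).symm.mul_mul_mul_comm,
      (xa.pow_pow _ _).symm.mul_mul_mul_comm]
  have cj : ∀ g r s u : G, g * (r * s * u) * g⁻¹ = g * r * g⁻¹ * (g * s * g⁻¹) * (g * u * g⁻¹) :=
    fun g r s u => by group
  have hc : ∀ v, c * ι v * c⁻¹ = ι ![-v 0, m * v 1, m * v 2] := fun v => by
    simp [hι, cj, ← conj_pow, c1, c2, c3, pw_neg x13, pw_nm a13, pw_nm b13]
  have hy : ∀ v, y * ι v * y⁻¹ = ι ![v 0, -m * v 1, m * v 2] := fun v => by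
    simp [hι, cj, ← conj_pow, d1, d2, d3, pw_neg a13, pw_nm a13, pw_nm b13]
  have in1 : ∀ v, ι v = 1 → v = 0 := fun v e => by
    have e1 := hy v
    rw [e, mul_one, mul_inv_cancel] at e1
    have e2 := hc v
    rw [e, mul_one, mul_inv_cancel] at e2
    have e3 := hc ![v 0, -m * v 1, m * v 2]
    rw [← e1, mul_one, mul_inv_cancel] at e3
    have e4 := hc ![-v 0, m * v 1, m * v 2]
    rw [← e2, mul_one, mul_inv_cancel] at e4
    have f3 := add v _ |>.trans (by rw [← e3, e, mul_one])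
    have f4 := add v _ |>.trans (by rw [← e4, e, mul_one])
    simp only [hι, Pi.add_apply, Matrix.cons_val, ← mul_assoc, mul_neg, hm, neg_mul, one_mul,
      add_neg_cancel, ZMod.val_zero, pow_zero, mul_one, neg_neg] at f3 f4
    have g0 : v 0 = 0 := by
      have := pw_inj (b := 0) x13 x1 (by simpa using f4); grind
    have g1 : v 1 = 0 := by
      have := pw_inj (b := 0) a13 a1 (by simpa using f3); grind
    have g2 : v 2 = 0 := pw_inj b13 b1 (by simpa [hι, g0, g1] using e)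
    ext i; fin_cases i <;> assumption
  let φ : Multiplicative (Fin 3 → K13) →* G := MonoidHom.mk' (fun v => ι v.toAdd) fun v w => add _ _
  have φi : Function.Injective φ := (injective_iff_map_eq_one φ).2 fun v e => in1 _ e
  have inj : ∀ v w, ι v = ι w → v = w := fun v w e => φi (a₁ := .ofAdd v) (a₂ := .ofAdd w) e
  have mE : ∀ s, s ∈ φ.range ↔ ∃ v, ι v = s := fun s => Iff.rfl
  have cE : Nat.card φ.range = 13 ^ 3 := by
    rw [← Nat.card_congr (MonoidHom.ofInjective φi).toEquiv]; simp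
  generalize φ.range = E at mE cE
  have pE : IsPGroup 13 E := .of_card cE
  have sy : ∀ L, E ≤ L → ¬ 13 ∣ E.relIndex L := fun L l d => h4 (Dvd.dvd.trans (by
    rw [← H4.card_mul_relIndex l, cE, pow_succ 13 3]; exact Nat.mul_dvd_mul_left _ d)
      (card_subgroup_dvd_card L))
  have cm : ∀ s ∈ E, ∀ u ∈ E, s * u = u * s := fun s hs u hu => by
    obtain ⟨v, rfl⟩ := (mE _).1 hs
    obtain ⟨w, rfl⟩ := (mE _).1 hu
    rw [← add, add_comm, add]
  let H : Submonoid (Module.End K13 (Fin 3 → K13)) :=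
    { carrier := {A | ∃ g, ∀ v, g * ι v * g⁻¹ = ι (A v)}
      one_mem' := ⟨1, by simp⟩
      mul_mem' := by
        rintro A B ⟨g, e⟩ ⟨k, f⟩
        exact ⟨g * k, fun v => by rw [Module.End.mul_apply, ← e, ← f]; group⟩ }
  have lin : ∀ g, (∀ s ∈ E, g * s * g⁻¹ ∈ E) → ∃ A ∈ H, ∀ v, g * ι v * g⁻¹ = ι (A v) := fun g e => by
    choose f hf using fun v => (mE _).1 (e _ ((mE _).2 ⟨v, rfl⟩))
    exact ⟨_, ⟨g, fun v => (hf v).symm⟩, fun v => show _ = ι ((AddMonoidHom.mk' f fun v w =>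
      inj _ _ (by rw [add, hf, hf, hf, add]; group)).toZModLinearMap 13 v) from (hf v).symm⟩
  refine no_homol (H := H) (μ := m) ?_ hm ?_ ?_ ?_
  · rintro A ⟨g, e⟩
    obtain ⟨k, k1, k2⟩ := part13 g
    have e1 : ∀ n : ℕ, ∀ v, g ^ n * ι v * (g ^ n)⁻¹ = ι ((A ^ n) v) := fun n => by
      induction n with
      | zero => simp
      | succ n ih => intro v; rw [pow_succ' A, Module.End.mul_apply, ← e, ← ih, pow_succ']; group
    obtain ⟨n, n1, n2⟩ := exists_conj_mem_of_not_dvd_relIndex k2 (zpowers_le.2 (pow_mem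
      (mem_normalizer_fintype fun s hs => by
        obtain ⟨v, rfl⟩ := (mE _).1 hs
        exact (mE _).2 ⟨_, (e v).symm⟩) k)) (sy _ le_normalizer)
    have n3 : g ^ k ∈ E := (mem_normalizer_iff''.1 n1 _).2 (n2 _ (mem_zpowers _))
    refine ⟨k, k1, LinearMap.ext fun v => inj _ _ ?_⟩
    rw [← e1, cm _ n3 _ ((mE _).2 ⟨v, rfl⟩)]; simp
  · obtain ⟨A, a1, a2⟩ := lin c fun s hs => by
      obtain ⟨v, rfl⟩ := (mE _).1 hs
      exact (mE _).2 ⟨_, (hc v).symm⟩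
    exact ⟨A, a1, fun v => inj _ _ (by rw [← a2, hc])⟩
  · obtain ⟨A, a1, a2⟩ := lin y fun s hs => by
      obtain ⟨v, rfl⟩ := (mE _).1 hs
      exact (mE _).2 ⟨_, (hy v).symm⟩
    exact ⟨A, a1, fun v => inj _ _ (by rw [← a2, hy])⟩
  have key : ∀ v, v ≠ 0 → (∃ g, g * ι v * g⁻¹ ∈ zpowers x) →
      ∃ A ∈ H, ∃ l : K13, l ≠ 0 ∧ A ![1, 0, 0] = l • v := fun v v0 ⟨g, e⟩ => by
    obtain ⟨j, e⟩ := mem_powers_iff_mem_zpowers.2 e
    have e1 : ι ((j : K13) • ![1, 0, 0]) = g * ι v * g⁻¹ := by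
      rw [← e, hι]; simp [← pow_eq_pow_mod _ x13]
    obtain ⟨k, k1, k2⟩ := exists_conj_mem_of_not_dvd_relIndex (pE.map (MulAut.conj g⁻¹).toMonoidHom)
      (L := centralizer {ι v}) (by
        rintro _ ⟨s, hs, rfl⟩
        have := cm _ hs _ ((mE _).2 ⟨_, e1⟩)
        rw [mem_centralizer_singleton_iff]
        simp only [MulEquiv.coe_toMonoidHom, MulAut.conj_apply, inv_inv]
        calc _ = g⁻¹ * (s * (g * ι v * g⁻¹)) * g := by group
          _ = _ := by rw [this]; group)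
      (sy _ fun s hs => mem_centralizer_singleton_iff.2 (cm _ hs _ ((mE _).2 ⟨v, rfl⟩)))
    obtain ⟨A, a1, a2⟩ := lin (k⁻¹ * g⁻¹) fun s hs => by
      simpa [mul_assoc] using k2 _ ⟨s, hs, rfl⟩
    have a3 : (j : K13) • A ![1, 0, 0] = v := inj _ _ (by
      rw [← map_smul, ← a2, e1]
      calc _ = k⁻¹ * (ι v * k) := by group
        _ = _ := by rw [← mem_centralizer_singleton_iff.1 k1]; group)
    have j0 : (j : K13) ≠ 0 := fun e => v0 (by rw [← a3, e, zero_smul])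
    exact ⟨A, a1, _, inv_ne_zero j0, by rw [← a3, inv_smul_smul₀ j0]⟩
  simp only [List.forall_mem_cons] at h ⊢
  exact ⟨key _ (by simp) (by simpa [hι, ZMod.val_one] using h.1),
    key _ (by simp) (by simpa [hι, ZMod.val_one] using h.2.1),
    key _ (by simp) (by simpa [hι, ZMod.val_one, ← pow_eq_pow_mod _ b13] using h.2.2.1), by simp⟩

/-- the global hypotheses -/
structure Cf (x z : G) : Prop where
  h4 : ¬ 13 ^ 4 ∣ Nat.card G
  h2 : 13 ^ 2 ∣ Nat.card G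
  hz : ¬ 13 ^ 2 ∣ Nat.card (centralizer {z})
  x13 : x ^ 13 = 1
  x1 : x ≠ 1
  z2 : z * z = 1
  z1 : z ≠ 1
  xz : x * z = z * x
  hu : ∀ u, u * u = 1 → u * x = x * u → u * z = z * u → u = 1 ∨ u = z
  ht : ∀ t, t * t = 1 → t * x * t⁻¹ = x⁻¹ → IsConj z t

theorem inv_fpf (hP : t ∈ normalizer (P : Set G)) (t2 : t * t = 1)
    (h : ∀ a ∈ P, t * a * t⁻¹ = a → a = 1) (ha : a ∈ P) : t * a * t⁻¹ = a⁻¹ :=
  congrArg Subtype.val (congrFun (MonoidHom.FixedPointFree.coe_eq_inv_of_involutive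
    (φ := P.normalizerMonoidHom ⟨t, hP⟩) (fun a e => Subtype.ext (h a a.2 (congrArg Subtype.val e)))
    fun a => Subtype.ext (by
      show t * (t * a * t⁻¹) * t⁻¹ = a
      calc _ = (t * t) * a * (t * t)⁻¹ := by group
        _ = _ := by rw [t2]; group)) ⟨a, ha⟩)

theorem comm13 (h4 : ¬ 13 ^ 4 ∣ Nat.card G) (hP : IsPGroup 13 P) (x13 : x ^ 13 = 1) (x1 : x ≠ 1)
    (xP : x ∈ P) (l : P ≤ centralizer {x}) (ha : a ∈ P) (hb : b ∈ P) :
    a * b * a⁻¹ * b⁻¹ ∈ zpowers x := by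
  have n : ((zpowers x).subgroupOf P).Normal := (normal_subgroupOf_iff (zpowers_le.2 xP)).2
    fun s k ⟨n, e⟩ hk => ⟨n, by
      rw [← e, ((show Commute k x from mem_centralizer_singleton_iff.1 (l hk)).zpow_right n).eq]; simp⟩
  obtain ⟨k, e⟩ := IsPGroup.iff_card.1 (hP.to_quotient ((zpowers x).subgroupOf P))
  have c := H4.card_mul_relIndex (zpowers_le.2 xP)
  rw [Nat.card_zpowers, orderOf_eq_prime x13 x1, relIndex, index, e, ← pow_succ'] at c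
  have : k ≤ 2 := by
    by_contra d
    exact h4 (((pow_dvd_pow 13 (by omega)).trans c.dvd).trans (card_subgroup_dvd_card P))
  have : IsMulCommutative (P ⧸ (zpowers x).subgroupOf P) := by
    rcases this.eq_or_lt with rfl | d
    · exact IsPGroup.isMulCommutative_of_card_eq_prime_sq e
    · have := isCyclic_of_card_dvd_prime (p := 13) (e.dvd.trans (pow_dvd_pow 13 (Nat.le_of_lt_succ d)))
      infer_instance
  have := (QuotientGroup.eq_one_iff (N := (zpowers x).subgroupOf P)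
    (⟨a, ha⟩ * ⟨b, hb⟩ * ⟨a, ha⟩⁻¹ * ⟨b, hb⟩⁻¹)).1 (by
      simp only [QuotientGroup.mk_mul, QuotientGroup.mk_inv]
      rw [mul_comm' (QuotientGroup.mk _) (QuotientGroup.mk _)]; group)
  exact this

namespace Cf
variable (h : Cf x z)
include h

theorem odd (e : t * a * t⁻¹ = a) (f : t * x * t⁻¹ = x⁻¹) (hP : IsPGroup 13 P) (xP : x ∈ P)
    (aP : a ∈ P) (az : z * a * z⁻¹ = a) : a = 1 := by
  obtain ⟨n, rfl⟩ := mem_powers_iff_mem_zpowers.2 (mem13 h.hz (IsConj.refl z) (R := P ⊓ centralizer {z})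
    hP.to_inf_left inf_le_right ⟨xP, mem_centralizer_singleton_iff.2 h.xz⟩ h.x1
    ⟨aP, mem_centralizer_singleton_iff.2 (mul_inv_eq_iff_eq_mul.1 az).symm⟩)
  simp only [← conj_pow, f, inv_pow, inv_eq_iff_mul_eq_one, ← sq] at e
  have := pow_gcd_eq_one.2 ⟨e, show (x ^ n) ^ 13 = 1 by rw [← pow_mul, mul_comm, pow_mul, h.x13, one_pow]⟩
  simpa using this

theorem fix (hP : IsPGroup 13 P) (n : ¬ P ≤ centralizer {z}) (h1 : t ∈ normalizer (P : Set G))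
    (h2 : z ∈ normalizer (P : Set G)) (t2 : t * t = 1) (tz : t * z = z * t) :
    ∃ s, (s = t ∨ s = t * z) ∧ ∃ a ∈ P, a ≠ 1 ∧ s * a * s⁻¹ = a := by
  by_contra! k
  refine n fun a ha => mem_centralizer_singleton_iff.2 ?_
  have e1 := inv_fpf h1 t2 (fun a b c => by_contra fun d => k t (.inl rfl) a b d c) ha
  have e2 := inv_fpf (mul_mem h1 h2) (by rw [mul_assoc, ← mul_assoc z, ← tz, mul_assoc, h.z2, mul_one, t2])
    (fun a b c => by_contra fun d => k _ (.inr rfl) a b d c) ha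
  rw [← e1, mul_inv_rev, ← mul_assoc, mul_left_inj, mul_assoc, mul_assoc, mul_right_inj] at e2
  conv_lhs => rw [← e2]
  group

theorem nrm (hP : IsPGroup 13 P) (t2 : t * t = 1) (f : t * x * t⁻¹ = x⁻¹) (aP : a ∈ P) (a1 : a ≠ 1)
    (e : t * a * t⁻¹ = a) : a ^ 13 = 1 ∧ ∀ y ∈ normalizer (P : Set G), y * t = t * y →
      ∃ m : ℕ, y * a * y⁻¹ = a ^ m := by
  have aR : a ∈ P ⊓ centralizer {t} :=
    ⟨aP, mem_centralizer_singleton_iff.2 (mul_inv_eq_iff_eq_mul.1 e).symm⟩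
  have c := card13 h.hz (h.ht t t2 f) (R := P ⊓ centralizer {t}) hP.to_inf_left inf_le_right
  refine ⟨orderOf_dvd_iff_pow_eq_one.1 ((orderOf_dvd_natCard _ aR).trans c), fun y y1 y2 => ?_⟩
  obtain ⟨m, e⟩ := mem_powers_iff_mem_zpowers.2 (zp13 c aR a1 (b := y * a * y⁻¹)
    ⟨(mem_normalizer_iff.1 y1 a).1 aP, mem_centralizer_singleton_iff.2
      (((show Commute y t from y2).mul_left (mem_centralizer_singleton_iff.1 aR.2)).mul_left
        (show Commute y t from y2).inv_left)⟩)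
  exact ⟨m, e.symm⟩

theorem core (a1 : Commute y₁ x) (a2 : Commute y₂ x) (b1 : y₁ * y₁ = z) (b2 : y₂ * y₂ = z)
    (b3 : y₂ * y₁ = y₁ * y₂ * z) (c0 : c * x * c⁻¹ = x⁻¹) (c1 : Commute c y₁) (c2 : Commute c y₂)
    (c3 : c * c = 1 ∨ c * c = z) (τ : Prop) : Md 13 G τ := by
  have z1 : Commute y₁ z := b1 ▸ (Commute.refl _).mul_right (Commute.refl _)
  have z2 : Commute y₂ z := b2 ▸ (Commute.refl _).mul_right (Commute.refl _)
  have z3 : Commute c z := b1 ▸ c1.mul_right c1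
  have zz : z⁻¹ = z := inv_eq_of_mul_eq_one_right h.z2
  have p4 : ∀ y : G, y * y = 1 ∨ y * y = z → IsPGroup 2 (zpowers y) := fun y e => pgk (k := 2) (by
    rw [show y ^ 2 ^ 2 = y * y * (y * y) by simp [pow_succ, mul_assoc]]
    rcases e with e | e <;> simp [e, h.z2])
  have nz : ∀ g s : G, g * s * g⁻¹ ∈ zpowers s → g ∈ normalizer (zpowers s : Set G) :=
    fun g s e => mem_normalizer_fintype fun u ⟨n, hu⟩ => by
      rw [← hu]; simpa using zpow_mem e n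
  have cn : ∀ g, Commute g x → g ∈ normalizer (zpowers x : Set G) := fun g e => nz _ _ (by simp [e.eq])
  obtain ⟨P, hP, xP, Px, N, Pz⟩ := exists_P h.h2 h.hz h.x13 h.x1 h.z2 h.z1 h.xz h.hu
    (T := zpowers c ⊔ (zpowers y₁ ⊔ zpowers y₂))
    ((p4 c c3).to_sup_of_normal_left' ((p4 _ (.inr b1)).to_sup_of_normal_left' (p4 _ (.inr b2))
      (zpowers_le.2 (nz _ _ (by
        rw [b3, mul_assoc, ← z2.symm.inv_right.eq.symm, ← mul_assoc, mul_inv_cancel_right, ← b1]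
        exact mul_mem (mem_zpowers _) (mul_mem (mem_zpowers _) (mem_zpowers _))))))
      (sup_le (zpowers_le.2 (nz _ _ (by simp [← c1.eq]))) (zpowers_le.2 (nz _ _ (by simp [← c2.eq])))))
    (sup_le (zpowers_le.2 (nz _ _ (by simp [c0]))) (sup_le (zpowers_le.2 (cn _ a1))
      (zpowers_le.2 (cn _ a2))))
  simp only [sup_le_iff, zpowers_le] at N
  obtain ⟨N0, N1, N2⟩ := N
  have Nz : z ∈ normalizer (P : Set G) := b1 ▸ mul_mem N1 N1
  have iz : ∀ t, t * x * t⁻¹ = x⁻¹ → t * z * x * (t * z)⁻¹ = x⁻¹ := fun t e => by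
    rw [← e, mul_assoc t, ← h.xz]; group
  have sq : ∀ t, t * t = 1 → Commute t z → t * z * (t * z) = 1 := fun t e f => by
    rw [f.symm.mul_mul_mul_comm, e, h.z2, mul_one]
  rcases c3 with c3 | c3
  · obtain ⟨s, s1, a, aP, a0, e⟩ := h.fix hP Pz N0 Nz c3 z3
    obtain ⟨s2, s3, s4, s5⟩ : s * s = 1 ∧ s * x * s⁻¹ = x⁻¹ ∧ Commute y₁ s ∧ Commute y₂ s := by
      rcases s1 with rfl | rfl
      exacts [⟨c3, c0, c1.symm, c2.symm⟩, ⟨sq _ c3 z3, iz _ c0, c1.symm.mul_right z1, c2.symm.mul_right z2⟩]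
    obtain ⟨m, e1⟩ := (h.nrm hP s2 s3 aP a0 e).2 _ N1 s4
    obtain ⟨n, e2⟩ := (h.nrm hP s2 s3 aP a0 e).2 _ N2 s5
    refine absurd (h.odd e s3 hP xP aP ?_) a0
    have : y₁ * y₂ * (z * a * z⁻¹) * (y₁ * y₂)⁻¹ = y₁ * y₂ * a * (y₁ * y₂)⁻¹ := by
      calc _ = (y₁ * y₂ * z) * a * (y₁ * y₂ * z)⁻¹ := by group
        _ = y₂ * (y₁ * a * y₁⁻¹) * y₂⁻¹ := by rw [← b3]; group
        _ = y₁ * (y₂ * a * y₂⁻¹) * y₁⁻¹ := by
          rw [e1, e2, ← conj_pow, ← conj_pow, e1, e2, ← pow_mul, ← pow_mul, mul_comm]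
        _ = _ := by group
    simpa using this
  have t1 : ∀ y, Commute y x → y * y = z → Commute c y →
      c * y * (c * y) = 1 ∧ c * y * x * (c * y)⁻¹ = x⁻¹ := fun y u v w =>
    ⟨by rw [w.symm.mul_mul_mul_comm, c3, v, h.z2], by rw [← c0, mul_assoc c, u.eq]; group⟩
  obtain ⟨t2, t3⟩ := t1 _ a1 b1 c1
  have t4 : y₂ * (c * y₁) * y₂⁻¹ = c * y₁ * z := by
    rw [← mul_assoc, ← c2.eq, mul_assoc c, b3, mul_assoc y₁, z2.eq]; group
  obtain ⟨a, aP, a0, e⟩ : ∃ a ∈ P, a ≠ 1 ∧ c * y₁ * a * (c * y₁)⁻¹ = a := by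
    obtain ⟨s, rfl | rfl, a, aP, a0, e⟩ := h.fix hP Pz (mul_mem N0 N1) Nz t2 (z3.mul_left z1)
    · exact ⟨a, aP, a0, e⟩
    · refine ⟨y₂⁻¹ * a * y₂, (mem_normalizer_iff''.1 N2 _).1 aP,
        fun e => a0 (conj_eq_one_iff.1 (by rwa [inv_inv])), ?_⟩
      conv_rhs => rw [← e, ← t4]
      group
  obtain ⟨a13, k⟩ := h.nrm hP t2 t3 aP a0 e
  obtain ⟨m, e1⟩ := k _ N0 ((Commute.refl c).mul_right c1)
  obtain ⟨n, e2⟩ := k _ Nz (z3.mul_left z1).symm
  have p13 : ∀ s : G, s ^ 13 = 1 → (s ^ m) ^ 13 = 1 := fun s u => by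
    rw [← pow_mul, mul_comm, pow_mul, u, one_pow]
  have e3 : z * a * z⁻¹ = a ^ ((m : K13) * m).val := by
    rw [pw_mul a13, pow_mul, pw_nat a13, pw_nat (p13 a a13), ← e1, conj_pow, ← e1, ← c3]; group
  have hm : (m : K13) * m = -1 := by
    have u : (m : K13) * m * (m * m) = 1 := pw_inj a13 a0 (by
      rw [pw_mul a13, pow_mul, ← e3, conj_pow, ← e3, ZMod.val_one, pow_one]
      calc _ = (z * z) * a * (z * z)⁻¹ := by group
        _ = _ := by simp [h.z2])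
    refine (mul_self_eq_one_iff.1 u).resolve_left fun v => a0 (h.odd e t3 hP xP aP ?_)
    rw [e3, v, ZMod.val_one, pow_one]
  rw [hm, pw_neg a13, ZMod.val_one, pow_one] at e3
  have mm : ∀ s : G, s ^ 13 = 1 → (s ^ m) ^ m = s⁻¹ := fun s u => by
    rw [← pw_nat (p13 s u), ← pw_nm u, hm, pw_neg u, ZMod.val_one, pow_one]
  obtain ⟨b, hb⟩ : ∃ b, b = y₂ * a * y₂⁻¹ := ⟨_, rfl⟩
  have bP : b ∈ P := hb ▸ (mem_normalizer_iff.1 N2 _).1 aP
  have b13 : b ^ 13 = 1 := by rw [hb, conj_pow, a13]; group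
  have b0 : b ≠ 1 := by simpa [hb] using a0
  have f1 : c * b * c⁻¹ = b ^ m := by
    rw [hb, conj_pow, ← e1, ← mul_assoc, ← mul_assoc, c2.eq, mul_assoc _ y₂⁻¹, c2.inv_inv.symm.eq]; group
  have f2 : y₂ * b * y₂⁻¹ = a⁻¹ := by rw [hb, ← e3, ← b2]; group
  have f3 : c * y₁ * z * b * (c * y₁ * z)⁻¹ = b := by
    rw [← t4, hb]; conv_rhs => rw [← e]
    group
  have f4 : z * b * z⁻¹ = b⁻¹ := by
    rw [hb, ← mul_assoc, ← mul_assoc, ← z2.eq, mul_assoc _ y₂⁻¹, z2.inv_inv.eq, conj_inv, ← e3]; group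
  have ci : ∀ s : G, s ^ 13 = 1 → c * s * c⁻¹ = s ^ m → c⁻¹ * s * c = (s ^ m)⁻¹ := fun s u v => by
    conv_lhs => rw [← inv_inv s, ← mm s u, ← v, conj_pow]
    group
  have g1 : y₁ * a * y₁⁻¹ = (a ^ m)⁻¹ := by
    rw [← ci a a13 e1]; conv_rhs => rw [← e]
    group
  have g2 : y₁ * b * y₁⁻¹ = b ^ m := by
    rw [← inv_inv (b ^ m), ← ci b b13 f1]; conv_rhs => rw [← f3, mul_assoc _ z, mul_inv_rev _ z]
    calc _ = y₁ * (z * b * z⁻¹)⁻¹ * y₁⁻¹ := by rw [f4, inv_inv]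
      _ = _ := by group
  obtain ⟨t5, t6⟩ := t1 _ a2 b2 c2
  have g3 : c * y₂ * a * (c * y₂)⁻¹ = b ^ m := by rw [← f1, hb]; group
  have g4 : c * y₂ * b ^ m * (c * y₂)⁻¹ = a := by
    rw [← conj_pow, show c * y₂ * b * (c * y₂)⁻¹ = (c * a * c⁻¹)⁻¹ by rw [conj_inv, ← f2]; group, e1,
      inv_pow, mm a a13, inv_inv]
  have cj : ∀ t s : G, t * t = 1 → t * x * t⁻¹ = x⁻¹ → s ^ 13 = 1 → t * s * t⁻¹ = s →
      ∃ g, g * s * g⁻¹ ∈ zpowers x := fun t s u v w r =>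
    conj13 h.hz h.x13 h.x1 h.xz (h.ht t u v) w (mul_inv_eq_iff_eq_mul.1 r).symm
  have k1 := cj _ _ t2 t3 a13 e
  have k2 := cj _ _ (sq _ t2 (z3.mul_left z1)) (iz _ t3) b13 f3
  have xa : Commute x a := (mem_centralizer_singleton_iff.1 (Px aP)).symm
  have xb : Commute x b := (mem_centralizer_singleton_iff.1 (Px bP)).symm
  by_cases ab : Commute a b
  · refine (ab13 h.h4 hm h.x13 a13 b13 h.x1 a0 b0 xa xb ab c0 e1 f1 (by simp [a1.eq]) g1 g2 ?_).elim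
    simp only [List.forall_mem_cons]
    refine ⟨k1, k2, cj _ _ t5 t6 ?_ ?_, by simp⟩
    · rw [(ab.pow_right m).mul_pow, a13, ← pow_mul, mul_comm m, pow_mul, b13]; simp
    · rw [← conj_mul, g3, g4, (ab.pow_right m).eq]
  have w1 := comm13 h.h4 hP h.x13 h.x1 xP Px aP bP
  obtain ⟨w, hw⟩ : ∃ w, w = a * b * a⁻¹ * b⁻¹ := ⟨_, rfl⟩
  rw [← hw] at w1
  have cx : Nat.card (zpowers x) ∣ 13 := by rw [Nat.card_zpowers, orderOf_eq_prime h.x13 h.x1]
  have w0 : w ≠ 1 := fun e => ab (commutatorElement_eq_one_iff_commute.1 (hw.symm.trans e))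
  have wc : ∀ s, Commute x s → Commute s w := fun s e => by
    obtain ⟨n, rfl⟩ := w1; exact e.symm.zpow_right n
  obtain ⟨S, ε, F, r1, r2, r3⟩ := exists_fr (p := 13) (by decide) a13 b13
    (orderOf_dvd_iff_pow_eq_one.1 ((orderOf_dvd_natCard _ w1).trans cx)) w0 (by rw [hw]; group)
    (wc _ xa) (wc _ xb)
  have R : ∀ v d, v ≠ 0 → (∃ g, g * ε v d * g⁻¹ ∈ zpowers x) → v ∈ Rg ε := fun v d v0 ⟨g, e⟩ => by
    obtain ⟨n, e⟩ := mem_powers_iff_mem_zpowers.2 (zp13 cx w1 w0 e)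
    exact F.mem_Rg v0 (e.symm.trans (by rw [← r3]; exact (F.pow 0 2 n).trans (by rw [smul_zero])))
  have m0 : (m : K13) ≠ 0 := fun a => by simp [a] at hm
  have q1 : a * b ^ m * (b ^ m * a) = ε ![2, 2 * m] 0 := by
    rw [← r1, ← r2, F.pow, F.mul, F.mul, F.mul, F.eq_iff]
    exact ⟨vext (by simp; ring) (by simp; ring), by simp [om]⟩
  have q2 : b ^ m * a * (a * b ^ m) = ε ![2, 2 * m] 0 := by
    rw [← r1, ← r2, F.pow, F.mul, F.mul, F.mul, F.eq_iff]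
    exact ⟨vext (by simp; ring) (by simp; ring), by simp [om]⟩
  refine ⟨S, ε, F, h.h4, ⟨_, R ![1, 0] 0 (by simp) (r1 ▸ k1), _, R ![0, 1] 0 (by simp) (r2 ▸ k2), _,
    R ![2, 2 * m] 0 (fun e => absurd (show (2 : K13) = 0 from congrFun e 0) (by decide)) (cj _ _ t5 t6 (F.pow_p _ _) ?_),
    by simp [om], by simp [om]; grind, by simp [om]; decide⟩, fun e => absurd e (by norm_num)⟩
  conv_lhs => rw [← q1, ← conj_mul, ← conj_mul, ← conj_mul, g3, g4, q2]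

end Cf

end H15.RV
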