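import Cfsg.Agent.H15.RV.N

/-! Lifting the `13`-local data through a `2`-group. -/

set_option autoImplicit false
set_option linter.unusedSectionVars false

namespace H15.RV
open Subgroup H2 Cfsg
open scoped Pointwise

variable {H K : Type*} [Group H] [Finite H] [Group K] {π : H →* K} {g j₁ j₂ c : K} {x z : H}

theorem lift_x (hs : Function.Surjective π) (hQ : IsPGroup 2 π.ker) (g13 : g ^ 13 = 1) :
    ∃ x, π x = g ∧ x ^ 13 = 1 := by
  obtain ⟨X, rfl⟩ := hs g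
  obtain ⟨k, e⟩ := hQ ⟨X ^ 13, by rw [MonoidHom.mem_ker, map_pow, g13]⟩
  refine ⟨X ^ 2 ^ (12 * k), ?_, ?_⟩
  · rw [map_pow, pow_eq_pow_mod _ g13, pow_mul, Nat.pow_mod]; simp
  · rw [← pow_mul, mul_comm, pow_mul, show 12 * k = k + 11 * k by ring, pow_add, pow_mul,
      show (X ^ 13) ^ 2 ^ k = 1 from congrArg Subtype.val e, one_pow]

theorem lift_n (hs : Function.Surjective π) (hQ : IsPGroup 2 π.ker) (g1 : π x ≠ 1) (x13 : x ^ 13 = 1)
    {k : K} {n : ℤ} (e : k⁻¹ * π x * k = π x ^ n) :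
    ∃ y, π y = k ∧ y⁻¹ * x * y = x ^ n := by
  obtain ⟨Y, rfl⟩ := hs k
  have x1 : x ≠ 1 := fun a => g1 (by rw [a, map_one])
  have cx : Nat.card (zpowers x) = 13 := by rw [Nat.card_zpowers, orderOf_eq_prime x13 x1]
  obtain ⟨q, q1, q2⟩ := exists_conj_mem_of_coprime (A := zpowers x) (K := π.ker)
    (H := MulAut.conj Y • zpowers x) (by rw [normalizer_eq_top]; exact le_top)
    (coprime_card_of_isPGroup hQ (by rw [cx]; norm_num)) (.inl (isSolvable_zpowers x))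
    fun a ⟨m, ha⟩ => ⟨a * (Y * x ^ (n * m) * Y⁻¹)⁻¹, by
      rw [MonoidHom.mem_ker, ← ha]
      simp only [map_mul, map_inv, map_zpow, mul_inv_eq_one]
      rw [zpow_mul, ← e, ← conj_zpow]; simp [mul_assoc], by simp [mem_conj_smul, mul_assoc]⟩
  have p : π (q * Y) = π Y := by rw [map_mul, q1, one_mul]
  refine ⟨q * Y, p, ?_⟩
  obtain ⟨m, a⟩ : (q * Y)⁻¹ * x * (q * Y) ∈ zpowers x := by
    simpa [mem_conj_smul, mul_assoc] using q2 x (mem_zpowers x)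
  have b := congrArg π a
  simp only [map_zpow, map_mul π _ (q * Y), map_mul π _ x, map_inv, p, e, zpow_eq_zpow_iff_modEq] at b
  rw [← a, zpow_eq_zpow_iff_modEq, orderOf_eq_prime x13 x1]
  rwa [orderOf_eq_prime (by rw [← map_pow, x13, map_one]) g1] at b

theorem lift_data (hs : Function.Surjective π) (hQ : IsPGroup 2 π.ker) (zc : ∀ a, Commute a z)
    (z2 : z * z = 1) (g13 : g ^ 13 = 1) (g1 : g ≠ 1) (a1 : Commute j₁ g) (a2 : Commute j₂ g)
    (b1 : j₁ * j₁ = 1) (b2 : j₂ * j₂ = 1) (b3 : Commute j₁ j₂) (n1 : j₁ ≠ 1) (n2 : j₂ ≠ 1)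
    (n3 : j₁ * j₂ ≠ 1) (c0 : c * g * c⁻¹ = g⁻¹) (c1 : Commute c j₁) (c2 : Commute c j₂) (c3 : c * c = 1)
    (h1 : ∀ x q, π x = g → π q = 1 → Commute q x → q = 1 ∨ q = z)
    (h2 : ∀ x u, π x = g → u * u = 1 → Commute u x → π u = 1) :
    ∃ x y₁ y₂ c : H, π x = g ∧ x ^ 13 = 1 ∧ Commute y₁ x ∧ Commute y₂ x ∧ y₁ * y₁ = z ∧ y₂ * y₂ = z ∧
      y₂ * y₁ = y₁ * y₂ * z ∧ c * x * c⁻¹ = x⁻¹ ∧ Commute c y₁ ∧ Commute c y₂ ∧
      (c * c = 1 ∨ c * c = z) := by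
  obtain ⟨x, rfl, x13⟩ := lift_x hs hQ g13
  have l : ∀ j, Commute j (π x) → ∃ y, π y = j ∧ Commute y x := fun j a => by
    obtain ⟨y, p, e⟩ := lift_n hs hQ g1 x13 (k := j) (n := 1) (by simp [mul_assoc, ← a.eq])
    exact ⟨y, p, by rw [zpow_one, mul_assoc, inv_mul_eq_iff_eq_mul] at e; exact e.symm⟩
  obtain ⟨y₁, rfl, d1⟩ := l _ a1
  obtain ⟨y₂, rfl, d2⟩ := l _ a2
  have ci : c⁻¹ = c := inv_eq_of_mul_eq_one_right c3
  obtain ⟨d, rfl, d0⟩ := lift_n hs hQ g1 x13 (k := c⁻¹) (n := -1) (by simpa using c0)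
    |>.imp fun d a => And.intro (ci ▸ a.1 : π d = c) a.2
  have sq : ∀ y, Commute y x → π y * π y = 1 → π y ≠ 1 → y * y = z := fun y a b n =>
    (h1 x _ rfl (by rw [map_mul, b]) (a.mul_left a)).resolve_left fun e => n (h2 x y rfl e a)
  have e1 := sq _ d1 b1 n1
  have e2 := sq _ d2 b2 n2
  have e3 : y₂ * y₁ = y₁ * y₂ * z := by
    rcases h1 x ((y₁ * y₂)⁻¹ * (y₂ * y₁)) rfl (by rw [map_mul, map_inv, map_mul, map_mul, b3.eq, inv_mul_cancel]) ((d1.mul_left d2).inv_left.mul_left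
      (d2.mul_left d1)) with e | e
    · rw [inv_mul_eq_one] at e
      refine absurd (h2 x (y₁ * y₂) rfl ?_ (d1.mul_left d2)) (by simpa using n3)
      rw [(show Commute y₂ y₁ from e.symm).mul_mul_mul_comm, e1, e2, z2]
    · rw [← e]; group
  have e4 : y₁ * y₂ = y₂ * y₁ * z := by rw [e3, mul_assoc, z2, mul_one]
  let P : H → Prop := fun d => d * x * d⁻¹ = x⁻¹ ∧ π d * π d = 1 ∧ Commute (π d) (π y₁) ∧ Commute (π d) (π y₂)
  have iv : ∀ d, P d → d * x⁻¹ * d⁻¹ = x := fun d p => by rw [← conj_inv, p.1, inv_inv]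
  have p1 : ∀ d y, P d → Commute y x → Commute (π d) (π y) → d * y = y * d ∨ d * y = y * d * z :=
    fun d y p a b => by
    rcases h1 x ((y * d)⁻¹ * (d * y)) rfl (by rw [map_mul, map_inv, map_mul, map_mul, b.eq, inv_mul_cancel]) (by
      have : d * x = x⁻¹ * d := by rw [← p.1]; group
      have t : d⁻¹ * x⁻¹ = x * d⁻¹ := by
        rw [← p.1]; group
      show _ = _
      rw [mul_inv_rev, mul_assoc, mul_assoc d, a.eq, ← mul_assoc d, this, mul_assoc d⁻¹, ← mul_assoc y⁻¹,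
        ← mul_assoc y⁻¹, a.inv_inv.eq, ← mul_assoc, ← mul_assoc, ← mul_assoc, t]
      group) with e | e
    · exact .inl (inv_mul_eq_one.1 e).symm
    · exact .inr (by rw [← e]; group)
  have p2 : ∀ d y, P d → Commute y x → π y * π y = 1 → Commute (π d) (π y) → Commute (π y) (π y₁) →
      Commute (π y) (π y₂) → P (d * y) := fun d y p a b c e f =>
    ⟨by rw [← p.1, mul_assoc d, a.eq]; group, by rw [map_mul, c.symm.mul_mul_mul_comm, p.2.1, b, mul_one],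
      by rw [map_mul]; exact p.2.2.1.mul_left e, by rw [map_mul]; exact p.2.2.2.mul_left f⟩
  have p0 : P d := ⟨by
    rw [zpow_neg_one, mul_assoc, inv_mul_eq_iff_eq_mul] at d0
    rw [← inv_inj, conj_inv, ← d0]; group, c3, c1, c2⟩
  obtain ⟨d, p, q⟩ : ∃ d, P d ∧ Commute d y₁ := by
    rcases p1 d y₁ p0 d1 c1 with e | e
    · exact ⟨d, p0, e⟩
    · exact ⟨_, p2 d y₂ p0 d2 b2 c2 b3.symm (.refl _), show _ = _ by
        rw [mul_assoc, e3, ← mul_assoc, ← mul_assoc, e, mul_assoc _ z, ← (zc y₂).eq, mul_assoc,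
          mul_assoc, mul_assoc _ z, z2]; group⟩
  obtain ⟨d, p, q, r⟩ : ∃ d, P d ∧ Commute d y₁ ∧ Commute d y₂ := by
    rcases p1 d y₂ p d2 p.2.2.2 with e | e
    · exact ⟨d, p, q, e⟩
    · exact ⟨_, p2 d y₁ p d1 b1 p.2.2.1 (.refl _) b3, q.mul_left (.refl _), show _ = _ by
        rw [mul_assoc, e4, ← mul_assoc, ← mul_assoc, e, mul_assoc _ z, ← (zc y₁).eq, mul_assoc,
          mul_assoc, mul_assoc _ z, z2]; group⟩
  refine ⟨x, y₁, y₂, d, rfl, x13, d1, d2, e1, e2, e3, p.1, q, r, h1 x _ rfl (by rw [map_mul, p.2.1]) ?_⟩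
  show _ = _
  conv_rhs => rw [← iv d p, ← p.1]
  group

theorem md13 {G : Type*} [Group G] [Finite G] {z : G} {π : centralizer {z} →* K}
    (h4 : ¬ 13 ^ 4 ∣ Nat.card G) (h3 : 13 ^ 2 ∣ Nat.card G) (hz : ¬ 13 ^ 2 ∣ Nat.card (centralizer {z}))
    (ht : ∀ x t : G, IsConj z t ∨ t = 1 ∨ t * t ≠ 1 ∨ orderOf (t * (x * t * x⁻¹)) ≤ 6) (z1 : z ≠ 1)
    (hs : Function.Surjective π) (hQ : IsPGroup 2 π.ker) (z2 : z * z = 1) (g13 : g ^ 13 = 1) (g1 : g ≠ 1)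
    (a1 : Commute j₁ g) (a2 : Commute j₂ g) (b1 : j₁ * j₁ = 1) (b2 : j₂ * j₂ = 1) (b3 : Commute j₁ j₂)
    (n1 : j₁ ≠ 1) (n2 : j₂ ≠ 1) (n3 : j₁ * j₂ ≠ 1) (c0 : c * g * c⁻¹ = g⁻¹) (c1 : Commute c j₁)
    (c2 : Commute c j₂) (c3 : c * c = 1)
    (h1 : ∀ x q, π x = g → π q = 1 → Commute q x → q.1 = 1 ∨ q.1 = z)
    (h2 : ∀ x u, π x = g → u * u = 1 → Commute u x → π u = 1) (τ : Prop) : Md 13 G τ := by
  obtain ⟨x, y₁, y₂, d, e0, e1, e2, e3, e4, e5, e6, e7, e8, e9, e⟩ := lift_data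
    (z := ⟨z, mem_centralizer_singleton_iff.2 rfl⟩) hs hQ
    (fun a => Subtype.ext (mem_centralizer_singleton_iff.1 a.2)) (Subtype.ext z2) g13 g1 a1 a2 b1 b2 b3
    n1 n2 n3 c0 c1 c2 c3 (fun x q a b c => (h1 x q a b c).imp Subtype.ext Subtype.ext) h2
  have x13 : x.1 ^ 13 = 1 := congrArg Subtype.val e1
  have x1 : x.1 ≠ 1 := fun a => g1 (by rw [← e0, show x = 1 from Subtype.ext a, map_one])
  have x2 : x.1⁻¹ * x.1⁻¹ ≠ 1 := fun a => x1 (by
    rw [← mul_inv_rev, inv_eq_one, ← sq] at a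
    simpa using pow_gcd_eq_one.2 ⟨a, x13⟩)
  refine Cf.core ⟨h4, h3, hz, x13, x1, z2, z1, mem_centralizer_singleton_iff.1 x.2, fun u a b c => ?_,
    fun t a b => ?_⟩ (e2.map (Subgroup.subtype _)) (e3.map (Subgroup.subtype _)) (congrArg Subtype.val e4)
    (congrArg Subtype.val e5) (congrArg Subtype.val e6) (congrArg Subtype.val e7)
    (e8.map (Subgroup.subtype _)) (e9.map (Subgroup.subtype _))
    (e.imp (congrArg Subtype.val) (congrArg Subtype.val)) τ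
  · exact h1 x ⟨u, mem_centralizer_singleton_iff.2 c⟩ e0 (h2 x _ e0 (Subtype.ext a) (Subtype.ext b))
      (Subtype.ext b)
  · rcases ht x t with k | rfl | k | k
    · exact k
    · exact absurd (by nth_rw 1 [← b]; group) x2
    · exact absurd a k
    rw [show t * (x * t * x.1⁻¹) = x.1⁻¹ * x.1⁻¹ by
      nth_rw 2 [← b]; rw [inv_eq_of_mul_eq_one_right a]; group, orderOf_eq_prime (p := 13) (by
        rw [← sq, ← pow_mul, mul_comm, pow_mul, inv_pow, x13]; simp) x2] at k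
    omega

end H15.RV
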