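import Cfsg.Agent.H15.RV.O
import Cfsg.Agent.H15.RV.P
import Cfsg.Agent.H14.SB4

/-! The Monster as the model for `p = 13`. -/

set_option autoImplicit false

namespace H15.RV
open Cfsg Finset Matrix H14.Mn
open scoped Kronecker

attribute [-simp] Fintype.sum_option
attribute [local irreducible] Fintype.piFinset

variable {g J : Co0} {h k : Matrix A A ℝ} {s r : E → ZMod 2}

theorem sq_ne (H : Lift J h s) (hs : ∀ e, cπ J e = e → s e = 0) : h * h ≠ -1 := fun a => by
  have t : hᵀ = -h := by rw [← neg_neg hᵀ, ← mul_neg_one hᵀ, ← a, ← Matrix.mul_assoc, H.hh, Matrix.one_mul]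
  have t0 : trace h = 0 := by
    have := trace_transpose h
    rw [t, trace_neg] at this; linarith
  have o : ∀ e, Xm e * (Xm e)ᵀ = 1 := fun e => mul_eq_one_comm.1 (Xm_orth e)
  obtain ⟨S, hS⟩ : ∃ S, S = ∑ e, (Xm e)ᵀ * h * Xm e := ⟨_, rfl⟩
  have c := scalar_of_comm (M := S) fun f => by
    have : (Xm f)ᵀ * S * Xm f = S := by
      rw [hS, Matrix.mul_sum, Matrix.sum_mul, ← Equiv.sum_comp (Equiv.addRight f) fun e => (Xm e)ᵀ * h * Xm e]
      refine sum_congr rfl fun e _ => ?_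
      calc _ = (Xm e * Xm f)ᵀ * h * (Xm e * Xm f) := by simp only [transpose_mul, Matrix.mul_assoc]
        _ = _ := by
          rw [Xm_mul, transpose_smul, smul_mul_assoc, smul_mul_smul_comm, χ_mul_self, one_smul]; rfl
    conv_rhs => rw [← this]
    rw [Matrix.mul_assoc, ← Matrix.mul_assoc, o, Matrix.one_mul]
  have c1 : trace S = 0 := by
    rw [hS, trace_sum]
    exact sum_eq_zero fun e _ => by rw [trace_mul_cycle, o, Matrix.one_mul, t0]
  rw [c, trace_smul, ← Xm_zero, tr_Xm, if_pos rfl, smul_eq_mul, mul_eq_zero] at c1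
  rw [c1.resolve_right (by norm_num), zero_smul] at c
  have c2 : 0 < trace (S * hᵀ) := by
    rw [hS, Matrix.sum_mul, trace_sum]
    simp only [Matrix.mul_assoc, ← Matrix.mul_assoc h, H.conj, Matrix.mul_smul, trace_smul, tr_XX]
    refine sum_pos' (fun e _ => ?_) ⟨0, mem_univ _, by simp [hs 0 (cπ_zero J)]⟩
    split_ifs with b
    · simp [hs e b.symm]
    · simp
  simp [c] at c2

theorem ex_LM (x : Subgroup.centralizer {zM}) (e : fM x = pc1 g) : ∃ h s, ∃ H : Lift g h s, x.1 = LM H := by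
  obtain ⟨x, hx⟩ := x
  obtain ⟨g', h, s, H, rfl⟩ := exists_LM hx
  rcases pc1_eq.1 (e.symm.trans (fM_LM H hx)) with rfl | rfl
  · exact ⟨h, s, H, rfl⟩
  · exact ⟨_, _, (C13.cN g').eq ▸ H.neg, (LM_neg H).symm.trans (LM_congr _ _ (C13.cN g').eq rfl)⟩

theorem sumE (hs : ∀ v : Lam, ∑ n ∈ range 13, g ^ n • v = 0) (e : E) : ∑ n ∈ range 13, cπ (g ^ n) e = 0 := by
  induction e using E_ind
  simp only [cπ_mu, ← map_sum, hs, map_zero]

theorem s_zero (hs : ∀ v : Lam, ∑ n ∈ range 13, g ^ n • v = 0) (H : Lift J h s) (H' : Lift g k r)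
    (c : LM H * LM H' = LM H' * LM H) {e : E} (a : cπ J e = e) : s e = 0 := by
  have s0 : s 0 = 0 := by simpa using H.s_add 0 0
  have k1 : ∀ e, cπ J e = e → s (cπ g e) = s e ∧ cπ J (cπ g e) = cπ g e := fun e a => by
    have := congrArg (fun x => x * qq 0 e * x⁻¹) c
    simp only [_root_.mul_inv_rev, ← mul_assoc] at this
    simp only [mul_assoc _ _ (qq 0 e), mul_assoc _ (_ * qq 0 e), LM_conj, a, zero_add] at this
    exact (qq_inj this).imp_left fun b => add_left_cancel (b.trans (add_comm _ _))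
  have k2 : ∀ n : ℕ, s (cπ (g ^ n) e) = s e ∧ cπ J (cπ (g ^ n) e) = cπ (g ^ n) e := fun n => by
    induction n with
    | zero => simpa using a
    | succ n ih => rw [pow_succ', cπ_mul]; exact (k1 _ ih.2).imp_left (·.trans ih.1)
  have k3 : ∀ n : ℕ, s (∑ i ∈ range n, cπ (g ^ i) e) = n • s e ∧
      cπ J (∑ i ∈ range n, cπ (g ^ i) e) = ∑ i ∈ range n, cπ (g ^ i) e := fun n => by
    induction n with
    | zero => simpa using s0
    | succ n ih =>
      have := H.s_add (∑ i ∈ range n, cπ (g ^ i) e) (cπ (g ^ n) e)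
      rw [ih.2, (k2 n).2, add_left_inj, ih.1, (k2 n).1] at this
      rw [sum_range_succ, this, cπ_add, ih.2, (k2 n).2, succ_nsmul]
      exact ⟨rfl, rfl⟩
  have := (k3 13).1
  rw [sumE hs, s0] at this
  revert this
  generalize s e = t
  revert t
  decide

theorem md13M (τ : Prop) : HasMd 13 τ := by
  obtain ⟨g, j₁, j₂, c, g13, hs, g1, a1, a2, b1, b2, b3, c0, c1, c2, c3⟩ := C13.data
  have n : ∀ j, j * j = coN → pc1 j * pc1 j = 1 ∧ pc1 j ≠ 1 := fun j e =>
    ⟨by rw [← map_mul, e, pc1_N], fun a => by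
      rw [← map_one pc1, pc1_eq, mul_one] at a
      rcases a with rfl | rfl
      exacts [coN_ne_one (e.symm.trans (one_mul _)), coN_ne_one (e.symm.trans coN_mul_self)]⟩
  refine ⟨H14.Mn.Mon, inferInstance, inferInstance, md13 (π := fM) (g := pc1 g) (by rw [card_Mon]; norm_num)
    (by rw [card_Mon]; norm_num) (by rw [card_C]; norm_num) (fun x t => ?_) zM_ne MT_M.surj
    (Q_pg.comap_subtype.to_le fun x => (MT_M.ker x).1) z_sq (by rw [← map_pow, g13, map_one]) g1
    (a1.map pc1) (a2.map pc1) (n _ b1).1 (n _ b2).1 ?_ (n _ b1).2 (n _ b2).2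
    (by rw [← map_mul]; exact (n _ b3).2) (by rw [← map_inv pc1 g, ← c0]; simp) (c1.map pc1) (c2.map pc1)
    (n _ c3).1 (fun x q a b d => ?_) (fun x u a b d => ?_) τ⟩
  · by_contra! k
    obtain ⟨y, hy, rfl⟩ := H14.SB.att ⟨k.2.2.1, k.2.1, k.1⟩
    exact absurd (tt_smul x hy ▸ ord6 hy (Xa_smul x hy)) k.2.2.2.not_ge
  · have := (n _ b3).1
    rw [map_mul] at this
    show _ = _
    rw [← inv_eq_of_mul_eq_one_right this, _root_.mul_inv_rev, inv_eq_of_mul_eq_one_right (n _ b1).1,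
      inv_eq_of_mul_eq_one_right (n _ b2).1]
  · obtain ⟨k, r, H, e⟩ := ex_LM x a
    obtain ⟨ε, f, e'⟩ := (MT_M.ker q).1 b
    have d1 : q.1 * x.1 = x.1 * q.1 := congrArg Subtype.val d
    rw [e, e', eq_comm, ← mul_inv_eq_iff_eq_mul, LM_conj] at d1
    have d2 : ∀ n : ℕ, cπ (g ^ n) f = f := fun n => by
      induction n with
      | zero => simp
      | succ n ih => rw [pow_succ, cπ_mul, (qq_inj d1).2, ih]
    have d3 := sumE hs f
    simp only [d2, sum_range_succ, sum_range_zero, zero_add, E_add_cancel'] at d3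
    rw [e', d3]
    exact qq_zero ε
  · obtain ⟨k, r, H', e'⟩ := ex_LM x a
    obtain ⟨J, hJ⟩ := pc1_surj (fM u)
    obtain ⟨h, s, H, e⟩ := ex_LM u hJ.symm
    refine hJ ▸ (C13.sq_N g13 (fun t => g1 (by rw [t, map_one])) hs (hJ ▸ a ▸ d.map fM)
      (by rw [hJ, sq, ← map_mul, b, map_one])).resolve_right fun t => ?_
    have d1 : u.1 * x.1 = x.1 * u.1 := congrArg Subtype.val d
    have d2 : u.1 * u.1 = 1 := congrArg Subtype.val b
    rw [e, e'] at d1
    rw [e, LM_mul, ← qq_one] at d2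
    have d3 := LM_W _ _ d2
    refine sq_ne H (fun _ => s_zero hs H H' d1) (Matrix.ext fun i j => ?_)
    have := congrFun (congrFun d3 (i, none)) (j, none)
    simp only [t, cm_N, cm_one, χ_zero, one_smul, Xm_zero, kroneckerMap_apply, Matrix.neg_apply,
      one_apply_eq] at this ⊢
    linarith

end H15.RV
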